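import Cfsg.Agent.Lib.ConjRankFour.Key
import Cfsg.Agent.Lib.ConjRankThree.General
import Cfsg.Agent.Lib.Fusion.Hyperfocal

set_option autoImplicit false
set_option linter.style.haveILetI false

/-!
An abstract form of an involution centralizer all of whose non-central elements of odd order have
centralizers of one order: its Sylow 2-subgroups are elementary abelian.
-/

namespace CfsgLib.ConjRankFour

open Cfsg Subgroup CfsgLib.ConjRankThree

universe u

variable {M : Type u} [Group M] [Finite M]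

theorem hasNormalPComplement_of_index {p : ℕ} [Fact p.Prime] {N : Subgroup M} [N.Normal]
    (hN : (Nat.card N).Coprime p) (hi : ∀ q : ℕ, q.Prime → q ∣ N.index → q = p) :
    HasNormalPComplement p M := by
  obtain ⟨P⟩ : Nonempty (Sylow p M) := inferInstance
  have hidx : N.index = p ^ N.index.factorization p := by
    have hi' := Nat.eq_prime_pow_of_unique_prime_dvd index_ne_zero_of_finite (fun {q} => hi q)
    rw [hi', (Fact.out : p.Prime).factorization_pow, Finsupp.single_eq_same]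
  have hco : (Nat.card N).Coprime (Nat.card P) := by
    rw [P.card_eq_multiplicity]
    exact hN.pow_right _
  have hfac : (Nat.card M).factorization p = N.index.factorization p := by
    rw [← N.card_mul_index, Nat.factorization_mul Nat.card_pos.ne' index_ne_zero_of_finite, Finsupp.add_apply,
      Nat.factorization_eq_zero_of_not_dvd, zero_add]
    exact fun hd => (Fact.out : p.Prime).ne_one (Nat.eq_one_of_dvd_coprimes hN hd dvd_rfl)
  refine ⟨P, N, inferInstance, isComplement'_of_coprime ?_ hco⟩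
  rw [P.card_eq_multiplicity, hfac, ← hidx]
  exact N.card_mul_index

theorem exists_qgroup_le (q : ℕ) [Fact q.Prime] (C : Subgroup M) :
    ∃ R : Subgroup M, R ≤ C ∧ IsPGroup q R ∧ Nat.card R = q ^ (Nat.card C).factorization q := by
  obtain ⟨S⟩ : Nonempty (Sylow q C) := inferInstance
  refine ⟨(S : Subgroup C).map C.subtype, map_subtype_le _, S.2.map _, ?_⟩
  rw [Nat.card_congr ((S : Subgroup C).equivMapOfInjective _ C.subtype_injective).symm.toEquiv,
    S.card_eq_multiplicity]

theorem eq_of_qgroup {q : ℕ} [Fact q.Prime] {X R : Subgroup M} {n : ℕ} (hn : n ≠ 0) (hX : IsPGroup q X)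
    (hR : R ≤ X) (hc : Nat.card R = q ^ n.factorization q) (hd : Nat.card X ∣ n) : X = R := by
  obtain ⟨j, hj⟩ := hX.exists_card_eq
  refine (eq_of_le_of_card_ge hR ?_).symm
  rw [hj] at hd ⊢
  rw [hc]
  exact Nat.pow_le_pow_right (Fact.out : q.Prime).pos (((Fact.out : q.Prime).pow_dvd_iff_le_factorization hn).mp hd)

theorem exists_orderOf_eq_pow {p : ℕ} [Fact p.Prime] {S : Subgroup M} (hS : IsPGroup p S) {x : M} (hx : x ∈ S) :
    ∃ k, orderOf x = p ^ k := by
  obtain ⟨k, hk⟩ := IsPGroup.iff_orderOf.mp hS ⟨x, hx⟩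
  exact ⟨k, by rwa [Subgroup.orderOf_mk] at hk⟩

theorem odd_orderOf {q : ℕ} [Fact q.Prime] (hq : q ≠ 2) {S : Subgroup M} (hS : IsPGroup q S) {x : M}
    (hx : x ∈ S) : Odd (orderOf x) := by
  obtain ⟨k, hk⟩ := exists_orderOf_eq_pow hS hx
  rw [hk]
  exact ((Fact.out : q.Prime).odd_of_ne_two hq).pow

/-- The centralizer of a bad involution, abstractly. -/
structure BadData (M : Type u) [Group M] [Finite M] (m : ℕ) : Prop where
  mpos : m ≠ 0
  solv : Group.IsSolvable M
  nil : Group.IsNilpotent (pPrimeCore 2 M)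
  nocomp : ¬ HasNormalPComplement 2 M
  odd_card : ∀ z : M, Odd (orderOf z) → z ∉ center M → cc z = m
  two_elem : ∀ u : M, (∃ k, 2 ≤ k ∧ orderOf u = 2 ^ k) → u ∉ center M →
    (∀ r : M, Odd (orderOf r) → r * u = u * r → ∀ c : M, c * u = u * c → c * r = r * c) ∧
      ∀ q : ℕ, q.Prime → q ≠ 2 → (cc u).factorization q = m.factorization q

namespace BadData

variable {m : ℕ} (h : BadData M m)
include h

theorem mem_core_of_qgroup {q : ℕ} [Fact q.Prime] {x : M} (hx : x ∈ pPrimeCore 2 M)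
    (hxq : ∃ k, orderOf x = q ^ k) : x ∈ pCore q M := by
  haveI := h.nil
  obtain ⟨k, hk⟩ := hxq
  obtain ⟨S, hS⟩ := exists_sylow_of_mem (x := (⟨x, hx⟩ : pPrimeCore 2 M)) (r := q) ⟨k, by rwa [Subgroup.orderOf_mk]⟩
  haveI : (S : Subgroup (pPrimeCore 2 M)).Characteristic := S.characteristic_of_normal (((Group.isNilpotent_of_finite_tfae (G := pPrimeCore 2 M)).out 0 3 :).mp h.nil q inferInstance S)
  haveI : ((S : Subgroup (pPrimeCore 2 M)).map (pPrimeCore 2 M).subtype).Normal :=
    ConjAct.normal_of_characteristic_of_normal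
  exact CfsgLib.le_pCore (N := (S : Subgroup (pPrimeCore 2 M)).map (pPrimeCore 2 M).subtype) (S.2.map _)
    (Subgroup.mem_map.mpr ⟨⟨x, hx⟩, hS, rfl⟩)

/-- The non-central elements of 2-power order are involutions. -/
theorem no_four (u : M) (hu : ∃ k, 2 ≤ k ∧ orderOf u = 2 ^ k) : u ∈ center M := by
  by_contra hnc
  haveI := h.solv
  obtain ⟨hcomm, hfac⟩ := h.two_elem u hu hnc
  have hu2 : ∃ k, orderOf u = 2 ^ k := hu.imp fun _ e => e.2
  have hkey : ∀ r : M, Odd (orderOf r) → r * u = u * r → r ∈ pPrimeCore 2 M := fun r ho hru =>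
    mem_pPrimeCore_two_of_commute hu2 ho (hcomm r ho hru)
  obtain ⟨q, hq, hq2, hne⟩ : ∃ q : ℕ, q.Prime ∧ q ≠ 2 ∧ m.factorization q ≠ (Nat.card M).factorization q := by
    by_contra hall
    push Not at hall
    haveI := Fact.mk Nat.prime_two
    refine h.nocomp (hasNormalPComplement_of_index (CfsgLib.card_pPrimeCore_coprime 2) fun q hq hd => ?_)
    by_contra hq2
    haveI := Fact.mk hq
    obtain ⟨R, hRC, hR, hRc⟩ := exists_qgroup_le q (centralizer ({u} : Set M))
    rw [show (Nat.card (centralizer ({u} : Set M))).factorization q = _ from (hfac q hq hq2).trans (hall q hq hq2)]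
      at hRc
    have hRO : R ≤ pPrimeCore 2 M := fun x hx => hkey x (odd_orderOf hq2 hR hx) (mem_cent.mp (hRC hx))
    exact (Sylow.ofCard R hRc).not_dvd_index (hd.trans (index_dvd_of_le hRO))
  haveI := Fact.mk hq
  set C := centralizer ({u} : Set M) with hC
  obtain ⟨R, hRC, hR, hRc⟩ := exists_qgroup_le q C
  have hRm : Nat.card R = q ^ m.factorization q := hRc.trans (congrArg (q ^ ·) (hfac q hq hq2))
  have hlt : m.factorization q < (Nat.card M).factorization q := by
    refine lt_of_le_of_ne ?_ hne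
    rw [← hfac q hq hq2]
    exact (Nat.factorization_le_iff_dvd Nat.card_pos.ne' Nat.card_pos.ne').mpr (cc_dvd u) q
  set P := pCore q M with hPdef
  have hPg : IsPGroup q P := CfsgLib.isPGroup_pCore q
  have hRu : ∀ a ∈ R, ∀ c ∈ C, c * a = a * c := fun a ha c hc =>
    hcomm a (odd_orderOf hq2 hR ha) (mem_cent.mp (hRC ha)) c (mem_cent.mp hc)
  have hRP : R ≤ P := fun x hx => h.mem_core_of_qgroup (hkey x (odd_orderOf hq2 hR hx) (mem_cent.mp (hRC hx)))
    (exists_orderOf_eq_pow hR hx)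
  obtain ⟨r, hr, hrc⟩ : ∃ r ∈ R, r ∉ center M := by
    by_contra hall
    push Not at hall
    obtain ⟨Q⟩ : Nonempty (Sylow q M) := inferInstance
    obtain ⟨y, hy, hyc⟩ : ∃ y ∈ (Q : Subgroup M), y ∉ center M := by
      by_contra hall'
      push Not at hall'
      have hQC : (Q : Subgroup M) ≤ C := fun y hy => mem_cent.mpr (mem_center_iff.mp (hall' y hy) u).symm
      have h1 := card_dvd_of_le hQC
      rw [Q.card_eq_multiplicity, hq.pow_dvd_iff_le_factorization Nat.card_pos.ne',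
        show (Nat.card C).factorization q = _ from hfac q hq hq2] at h1
      omega
    haveI : R.Normal := ⟨fun a ha g => by rw [mem_center_iff.mp (hall a ha) g, mul_inv_cancel_right]; exact ha⟩
    have hyP : IsPGroup q (zpowers y) := Q.2.to_le (zpowers_le.mpr hy)
    have hle : R ⊔ zpowers y ≤ centralizer ({y} : Set M) :=
      sup_le (fun a ha => mem_cent.mpr (mem_center_iff.mp (hall a ha) y).symm) (zpowers_le.mpr (self_mem y))
    have hcy : cc y = m := h.odd_card y (odd_orderOf hq2 Q.2 hy) hyc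
    have e := eq_of_qgroup h.mpos (hR.to_sup_of_normal_left hyP) le_sup_left hRm (hcy ▸ card_dvd_of_le hle)
    exact hyc (hall y (e ▸ mem_sup_right (mem_zpowers y)))
  have hcr : cc r = m := h.odd_card r (odd_orderOf hq2 hR hr) hrc
  have hCPr : P ⊓ centralizer ({r} : Set M) = R :=
    eq_of_qgroup h.mpos (hPg.to_le inf_le_left)
      (le_inf hRP fun a ha => mem_cent.mpr (hRu r hr a (hRC ha)))
      hRm (hcr ▸ card_dvd_of_le inf_le_right)
  have hn : ∀ H : Subgroup M, H ≤ normalizer (P : Set M) := fun H => by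
    rw [normalizer_eq_top]
    exact le_top
  have huP : zpowers u ≤ centralizer (P : Set M) := by
    refine CfsgLib.thompson_PxQ hR ?_ ?_ P hPg (hn _) (hn _) ?_
    · obtain ⟨k, hk⟩ := hu2
      rw [Nat.card_zpowers, hk]
      exact ((Nat.coprime_primes Nat.prime_two hq).mpr (Ne.symm hq2)).pow_left k
    · intro a ha z hz
      obtain ⟨i, rfl⟩ := mem_zpowers_iff.mp hz
      exact ((show Commute a u from mem_cent.mp (hRC ha)).zpow_right i).symm.eq
    · intro x ⟨hxP, hx⟩ z hz
      have hxR : x ∈ R := hCPr ▸ mem_inf.mpr ⟨hxP, mem_cent.mpr (hx r hr).symm⟩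
      obtain ⟨i, rfl⟩ := mem_zpowers_iff.mp hz
      exact ((show Commute x u from mem_cent.mp (hRC hxR)).zpow_right i).symm.eq
  have hPC : P ≤ C := fun x hx => mem_cent.mpr (huP (mem_zpowers u) x hx)
  have hPR : P = R := eq_of_qgroup (n := cc u) (cc_pos u).ne' hPg hRP hRc (card_dvd_of_le hPC)
  have hPcomm : ∀ a ∈ P, ∀ b ∈ P, a * b = b * a := fun a ha b hb => hRu b (hPR ▸ hb) a (hPC ha)
  have hPm : Nat.card P = q ^ m.factorization q := hPR ▸ hRm
  obtain ⟨Q⟩ : Nonempty (Sylow q M) := inferInstance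
  obtain ⟨y, hy, hyP⟩ : ∃ y ∈ (Q : Subgroup M), y ∉ P := by
    by_contra hall
    push Not at hall
    have h1 := card_le_of_le (show (Q : Subgroup M) ≤ P from hall)
    rw [Q.card_eq_multiplicity, hPm] at h1
    exact absurd ((Nat.pow_le_pow_iff_right hq.one_lt).mp h1) (by omega)
  have hyc : y ∉ center M := fun hc => hyP (by
    haveI : (zpowers y).Normal := ⟨fun a ha g => by
      rw [mem_center_iff.mp (zpowers_le.mpr hc ha) g, mul_inv_cancel_right]; exact ha⟩
    exact CfsgLib.le_pCore (Q.2.to_le (zpowers_le.mpr hy)) (mem_zpowers y))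
  have hcy : cc y = m := h.odd_card y (odd_orderOf hq2 Q.2 hy) hyc
  have hH : IsPGroup q (P ⊔ zpowers y : Subgroup M) :=
    hPg.to_sup_of_normal_left (Q.2.to_le (zpowers_le.mpr hy))
  have hbig : ∀ n : ℕ, n ≠ 0 → n.factorization q = m.factorization q →
      ¬ Nat.card (P ⊔ zpowers y : Subgroup M) ∣ n := by
    intro n hn0 hnq hd
    exact hyP ((eq_of_qgroup hn0 hH le_sup_left (hnq ▸ hPm) hd) ▸ mem_sup_right (mem_zpowers y))
  haveI := Fact.mk Nat.prime_two
  obtain ⟨T, hTy, hT, hTc⟩ := exists_qgroup_le 2 (centralizer ({y} : Set M))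
  rw [show (Nat.card (centralizer ({y} : Set M))).factorization 2 = m.factorization 2 from
    congrArg (fun n => n.factorization 2) hcy] at hTc
  set D := centralizer (P : Set M) with hD
  haveI hDn : D.Normal := by rw [hD]; infer_instance
  have hDr : D ≤ centralizer ({r} : Set M) := fun d hd => mem_cent.mpr (hd r (hRP hr)).symm
  obtain ⟨σ, hσT, hσD⟩ : ∃ σ ∈ T, σ ∉ D := by
    by_contra hall
    push Not at hall
    have hTD : T ≤ D := hall
    have hTc' : Nat.card (T.subgroupOf D) = 2 ^ (Nat.card D).factorization 2 := by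
      rw [Nat.card_congr (subgroupOfEquivOfLe hTD).toEquiv, hTc]
      congr 1
      refine le_antisymm ?_ ?_
      · have h1 := card_dvd_of_le hTD
        rw [hTc, Nat.prime_two.pow_dvd_iff_le_factorization Nat.card_pos.ne'] at h1
        exact h1
      · exact (Nat.factorization_le_iff_dvd Nat.card_pos.ne' h.mpos).mpr (hcr ▸ card_dvd_of_le hDr) 2
    let S : Sylow 2 D := Sylow.ofCard _ hTc'
    obtain ⟨k, hk⟩ := hu2
    have huD : u ∈ D := huP (mem_zpowers u)
    obtain ⟨S', hS'⟩ := exists_sylow_of_mem (x := (⟨u, huD⟩ : D)) (r := 2) ⟨k, by rwa [Subgroup.orderOf_mk]⟩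
    obtain ⟨d, hd⟩ := MulAction.exists_smul_eq D S' S
    have hu' : (d : M) * u * (d : M)⁻¹ ∈ T := by
      have h1 : d * ⟨u, huD⟩ * d⁻¹ ∈ (S : Subgroup D) := by
        rw [← hd, Sylow.coe_subgroup_smul]
        exact ⟨⟨u, huD⟩, hS', rfl⟩
      exact h1
    refine hbig (cc u) (cc_pos u).ne' (hfac q hq hq2) ?_
    rw [← cc_conj (d : M) u]
    refine card_dvd_of_le (sup_le ?_ (zpowers_le.mpr ?_))
    · intro a ha
      refine mem_cent.mpr ?_
      have e1 : a * (d : M) = d * a := d.2 a ha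
      have e2 : a * u = u * a := mem_cent.mp (hPC ha)
      have e3 : a * (d : M)⁻¹ = (d : M)⁻¹ * a := (show Commute a (d : M) from e1).inv_right.eq
      rw [← mul_assoc, ← mul_assoc, e1, mul_assoc (d : M) a u, e2, mul_assoc (d : M), mul_assoc u, e3]
      group
    · exact mem_cent_symm (hTy hu')
  have hσy : Commute σ y := mem_cent.mp (hTy hσT)
  let f : P →* M :=
    { toFun := fun x => σ * (x : M) * σ⁻¹ * (x : M)⁻¹
      map_one' := by simp
      map_mul' := fun a b => by
        have hb' : σ * (b : M) * σ⁻¹ ∈ P := (inferInstance : P.Normal).conj_mem _ b.2 σ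
        have ha' : σ * (a : M) * σ⁻¹ ∈ P := (inferInstance : P.Normal).conj_mem _ a.2 σ
        have e : σ * (b : M) * σ⁻¹ * (b : M)⁻¹ * (a : M)⁻¹ = (a : M)⁻¹ * (σ * (b : M) * σ⁻¹ * (b : M)⁻¹) :=
          hPcomm _ (mul_mem hb' (inv_mem b.2)) _ (inv_mem a.2)
        push_cast
        calc σ * ((a : M) * b) * σ⁻¹ * ((a : M) * b)⁻¹
            = σ * (a : M) * σ⁻¹ * (σ * (b : M) * σ⁻¹ * (b : M)⁻¹ * (a : M)⁻¹) := by group
          _ = σ * (a : M) * σ⁻¹ * ((a : M)⁻¹ * (σ * (b : M) * σ⁻¹ * (b : M)⁻¹)) := by rw [e]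
          _ = _ := by group }
  set N := f.range
  have hNP : N ≤ P := by
    rintro _ ⟨x, rfl⟩
    exact mul_mem ((inferInstance : P.Normal).conj_mem _ x.2 σ) (inv_mem x.2)
  set H := P ⊔ zpowers y
  have hHn : H ≤ normalizer (N : Set M) := by
    have key : ∀ g : M, (∀ n ∈ N, g * n * g⁻¹ ∈ N) → g ∈ normalizer (N : Set M) := fun g hg => by
      refine mem_normalizer_iff.mpr fun x => ⟨hg x, fun hx => ?_⟩
      have hmap : N.map (MulAut.conj g).toMonoidHom = N := by
        refine eq_of_le_of_card_ge ?_ ?_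
        · rintro _ ⟨n, hn, rfl⟩
          exact hg n hn
        · rw [Nat.card_congr (N.equivMapOfInjective _ (MulAut.conj g).injective).symm.toEquiv]
      rw [← hmap] at hx
      obtain ⟨n, hn, e⟩ := hx
      exact (MulAut.conj g).injective e ▸ hn
    refine sup_le (fun g hg => key g fun n hn => ?_) (zpowers_le.mpr (key y ?_))
    · rw [hPcomm g hg n (hNP hn), mul_inv_cancel_right]; exact hn
    · rintro _ ⟨x, rfl⟩
      refine ⟨⟨y * (x : M) * y⁻¹, (inferInstance : P.Normal).conj_mem _ x.2 y⟩, ?_⟩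
      show σ * (y * (x : M) * y⁻¹) * σ⁻¹ * (y * (x : M) * y⁻¹)⁻¹ = y * (σ * (x : M) * σ⁻¹ * (x : M)⁻¹) * y⁻¹
      calc σ * (y * (x : M) * y⁻¹) * σ⁻¹ * (y * (x : M) * y⁻¹)⁻¹
          = (σ * y) * (x : M) * (σ * y)⁻¹ * (y * (x : M) * y⁻¹)⁻¹ := by group
        _ = (y * σ) * (x : M) * (y * σ)⁻¹ * (y * (x : M) * y⁻¹)⁻¹ := by rw [hσy.eq]
        _ = _ := by group
  have hNH : N ≤ H := hNP.trans le_sup_left
  haveI : (N.subgroupOf H).Normal := (normal_subgroupOf_iff_le_normalizer hNH).mpr hHn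
  haveI : Group.IsNilpotent H := hH.isNilpotent
  have hN0 : N.subgroupOf H ≠ ⊥ := by
    rw [Ne, subgroupOf_eq_bot, disjoint_of_le_iff_left_eq_bot hNH]
    intro e
    refine hσD fun x hx => ?_
    have h1 : f ⟨x, hx⟩ ∈ N := ⟨_, rfl⟩
    rw [e, mem_bot] at h1
    have h2 : σ * x * σ⁻¹ * x⁻¹ = 1 := h1
    exact (mul_inv_eq_iff_eq_mul.mp (mul_inv_eq_one.mp h2)).symm
  obtain ⟨⟨⟨z, hzH⟩, hz⟩, hz1⟩ :=
    ne_bot_iff_exists_ne_one.mp (CfsgLib.inf_center_ne_bot_of_nilpotent hN0)
  obtain ⟨hzN, hzc⟩ := hz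
  obtain ⟨x, hxz⟩ := mem_subgroupOf.mp hzN
  replace hxz : σ * (x : M) * σ⁻¹ * (x : M)⁻¹ = z := hxz
  have hzP : z ∈ P := hNP ⟨x, hxz⟩
  have hσz : ¬ Commute σ z := by
    intro hc
    have hk : ∀ k : ℕ, σ ^ k * (x : M) * (σ ^ k)⁻¹ = z ^ k * (x : M) := by
      intro k
      induction k with
      | zero => simp
      | succ k ih =>
        calc σ ^ (k + 1) * (x : M) * (σ ^ (k + 1))⁻¹ = σ * (σ ^ k * (x : M) * (σ ^ k)⁻¹) * σ⁻¹ := by
              rw [pow_succ']; group
          _ = σ * z ^ k * (x : M) * σ⁻¹ := by rw [ih]; group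
          _ = z ^ k * (σ * (x : M) * σ⁻¹ * (x : M)⁻¹) * (x : M) := by rw [(hc.pow_right k).eq]; group
          _ = z ^ (k + 1) * (x : M) := by rw [hxz, pow_succ]
    have h1 := hk (orderOf σ)
    rw [pow_orderOf_eq_one, inv_one, mul_one, one_mul] at h1
    have h2 : z ^ orderOf σ = 1 := mul_eq_right.mp h1.symm
    obtain ⟨j, hj⟩ := exists_orderOf_eq_pow hT hσT
    obtain ⟨i, hi⟩ := exists_orderOf_eq_pow hPg hzP
    have hd := orderOf_dvd_of_pow_eq_one h2
    rw [hi, hj] at hd
    have : q ^ i = 1 :=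
      Nat.eq_one_of_dvd_coprimes (((Nat.coprime_primes hq Nat.prime_two).mpr hq2).pow i j) dvd_rfl hd
    rw [this, orderOf_eq_one_iff] at hi
    exact hz1 (Subtype.ext (Subtype.ext hi))
  have hcz : cc z = m := h.odd_card z (odd_orderOf hq2 hPg hzP) fun hc => hσz (mem_center_iff.mp hc σ)
  refine hbig m h.mpos rfl (hcz ▸ card_dvd_of_le fun g hg => mem_cent.mpr ?_)
  exact congrArg Subtype.val (mem_center_iff.mp hzc ⟨g, hg⟩)

/-- The Sylow 2-subgroups have exponent two. -/
theorem sylow_sq {S : Sylow 2 M} {s : M} (hs : s ∈ (S : Subgroup M)) : s * s = 1 := by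
  haveI := Fact.mk Nat.prime_two
  have hnc : ∀ x ∈ (S : Subgroup M), x ∉ center M → x * x = 1 := by
    intro x hx hxc
    obtain ⟨k, hk⟩ := exists_orderOf_eq_pow S.2 hx
    rw [← sq, ← orderOf_dvd_iff_pow_eq_one, hk]
    rcases Nat.lt_or_ge k 2 with h2 | h2
    · interval_cases k <;> simp
    · exact absurd (h.no_four x ⟨k, h2, hk⟩) hxc
  by_cases hsc : s ∈ center M
  · obtain ⟨x, hx, hxc⟩ : ∃ x ∈ (S : Subgroup M), x ∉ center M := by
      by_contra hall
      push Not at hall
      exact h.nocomp (Cfsg.FusionSystem.hasNormalPComplement_of_centralizes S fun Q hQ g _ _ a ha =>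
        (mem_center_iff.mp (hall a (hQ ha)) g).symm)
    have h1 : (x * s) * (x * s) = 1 := hnc _ (mul_mem hx hs) fun hc => hxc (by
      simpa using mul_mem hc (inv_mem hsc))
    calc s * s = x * x * (s * s) := by rw [hnc x hx hxc, one_mul]
      _ = x * (x * s) * s := by group
      _ = x * (s * x) * s := by rw [mem_center_iff.mp hsc x]
      _ = (x * s) * (x * s) := by group
      _ = 1 := h1
  · exact hnc s hs hsc

end BadData

end CfsgLib.ConjRankFour
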