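import Cfsg.Agent.Lib.ConjRankThree.Main

set_option autoImplicit false
set_option linter.style.haveILetI false

/-!
The partially ordered set of centralizer orders of a simple group.
-/

namespace CfsgLib.ConjRankFour

open Subgroup CfsgLib.ConjRankThree

universe u

variable {G : Type u} [Group G] [Finite G]

theorem orders_ncard_eq [IsSimpleGroup G] (hna : ¬ IsMulCommutative G) :
    Set.ncard {m : ℕ | ∃ x : G, x ∉ center G ∧ m = (centralizer ({x} : Set G)).index} = (orders G).ncard := by
  have hidx : ∀ x : G, (centralizer ({x} : Set G)).index = Nat.card G / cc x := fun x => by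
    rw [← (centralizer ({x} : Set G)).card_mul_index]
    exact (Nat.mul_div_cancel_left _ (cc_pos x)).symm
  have e : {m : ℕ | ∃ x : G, x ∉ center G ∧ m = (centralizer ({x} : Set G)).index} =
      (fun v => Nat.card G / v) '' orders G := by
    ext m
    constructor
    · rintro ⟨x, hx, rfl⟩
      exact ⟨cc x, ⟨x, fun e => hx ((mem_center_iff_one hna).mpr e), rfl⟩, (hidx x).symm⟩
    · rintro ⟨v, ⟨x, hx, rfl⟩, rfl⟩
      exact ⟨x, fun e => hx ((mem_center_iff_one hna).mp e), (hidx x).symm⟩
  rw [e]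
  refine Set.InjOn.ncard_image ?_
  rintro v ⟨x, -, rfl⟩ w ⟨y, -, rfl⟩ he
  have h1 := Nat.div_div_self (cc_dvd x) Nat.card_pos.ne'
  rw [show Nat.card G / cc x = Nat.card G / cc y from he, Nat.div_div_self (cc_dvd y) Nat.card_pos.ne'] at h1
  exact h1.symm

theorem orders_finite : (orders G).Finite :=
  (Set.finite_range (fun x : G => cc x)).subset fun _ ⟨x, _, e⟩ => ⟨x, e⟩

/-- A value dividing no other value. -/
def Head (G : Type u) [Group G] (v : ℕ) : Prop := v ∈ orders G ∧ ∀ w ∈ orders G, v ∣ w → w = v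

theorem exists_head {v : ℕ} (hv : v ∈ orders G) : ∃ h, Head G h ∧ v ∣ h := by
  obtain ⟨h, ⟨hh, hvh⟩, hmax⟩ := Set.exists_max_image {w ∈ orders G | v ∣ w} id
    (orders_finite.subset (Set.sep_subset _ _)) ⟨v, hv, dvd_rfl⟩
  refine ⟨h, ⟨hh, fun w hw hd => ?_⟩, hvh⟩
  obtain ⟨x, hx, rfl⟩ := hw
  exact le_antisymm (hmax _ ⟨⟨x, hx, rfl⟩, hvh.trans hd⟩) (Nat.le_of_dvd (cc_pos x) hd)

theorem Head.exists_primary {v : ℕ} (h : Head G v) :
    ∃ (x : G) (p : ℕ), p.Prime ∧ x ≠ 1 ∧ (∃ k, orderOf x = p ^ k) ∧ cc x = v := by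
  obtain ⟨x, hx, rfl⟩ := h.1
  obtain ⟨n, p, hp, hne, hord⟩ := ConjRankThree.exists_primary hx
  exact ⟨x ^ n, p, hp, hne, hord, h.2 _ ⟨_, hne, rfl⟩ (cc_le_of_le (cent_le_pow x n))⟩

theorem index_coprime_iff {x y : G} :
    (centralizer ({x} : Set G)).index.Coprime (centralizer ({y} : Set G)).index ↔
      ∀ r : ℕ, r.Prime → r ^ (Nat.card G).factorization r ∣ cc x ∨ r ^ (Nat.card G).factorization r ∣ cc y := by
  have key : ∀ (z : G) (r : ℕ), r.Prime →
      (r ^ (Nat.card G).factorization r ∣ cc z ↔ ¬ r ∣ (centralizer ({z} : Set G)).index) := by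
    intro z r hr
    rw [hr.pow_dvd_iff_le_factorization (cc_pos z).ne']
    have h : (Nat.card G).factorization r =
        (cc z).factorization r + (centralizer ({z} : Set G)).index.factorization r := by
      rw [← (centralizer ({z} : Set G)).card_mul_index,
        Nat.factorization_mul Nat.card_pos.ne' index_ne_zero_of_finite]
      rfl
    constructor
    · intro h1 h2
      have := hr.factorization_pos_of_dvd index_ne_zero_of_finite h2
      omega
    · intro h1
      rw [Nat.factorization_eq_zero_of_not_dvd h1] at h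
      omega
  constructor
  · intro h r hr
    by_contra hc
    push Not at hc
    rw [key x r hr, key y r hr, not_not, not_not] at hc
    exact hr.ne_one (Nat.eq_one_of_dvd_coprimes h hc.1 hc.2)
  · intro h
    refine Nat.coprime_of_dvd fun r hr h1 h2 => ?_
    rcases h r hr with h' | h'
    · exact (key x r hr).mp h' h1
    · exact (key y r hr).mp h' h2

/-- If the indices of the centralizers of `x` and `y` are coprime, those of `x * y` and `x` differ. -/
theorem cc_mul_ne [IsSimpleGroup G] (hna : ¬ IsMulCommutative G) {x y : G} (hx : x ≠ 1) (hy : y ≠ 1)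
    (hco : (centralizer ({x} : Set G)).index.Coprime (centralizer ({y} : Set G)).index) :
    cc (x * y) ≠ cc x := by
  intro e
  have hidx : (centralizer ({x * y} : Set G)).index = (centralizer ({x} : Set G)).index := by
    have h1 := (centralizer ({x * y} : Set G)).card_mul_index
    rw [← (centralizer ({x} : Set G)).card_mul_index, show Nat.card (centralizer ({x * y} : Set G)) = cc x from e] at h1
    exact Nat.eq_of_mul_eq_mul_left (cc_pos x) h1
  have key : ∀ (u v : G), (centralizer ({u} : Set G)).index.Coprime (centralizer ({v} : Set G)).index →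
      ∀ a b : G, IsConj (u * v) (a * u * a⁻¹ * (b * v * b⁻¹)) := by
    intro u v huv a b
    obtain ⟨c, hc, k, hk, ek⟩ := exists_factor _ _ huv (a⁻¹ * b)
    refine isConj_iff.mpr ⟨a * c, ?_⟩
    have eb : b = a * c * k := by rw [mul_assoc, ← ek]; group
    rw [mem_cent] at hc hk
    subst eb
    calc a * c * (u * v) * (a * c)⁻¹ = a * (c * u) * v * c⁻¹ * a⁻¹ := by group
      _ = a * u * a⁻¹ * (a * c * (v * k) * k⁻¹ * c⁻¹ * a⁻¹) := by rw [hc]; group
      _ = _ := by rw [← hk]; group
  have hco' : (centralizer ({x * y} : Set G)).index.Coprime (centralizer ({y⁻¹} : Set G)).index := by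
    have e1 : centralizer ({y⁻¹} : Set G) = centralizer {y} := by
      ext g
      simp only [mem_cent]
      exact ⟨fun h => (Commute.inv_right_iff.mp (show Commute g y⁻¹ from h)).eq, fun h => (show Commute g y from h).inv_right.eq⟩
    rw [hidx, e1]
    exact hco
  have step : ∀ u : G, IsConj x u → ∀ h h' : G, IsConj x (u * (h * y * h⁻¹ * (h' * y * h'⁻¹)⁻¹)) := by
    intro u hu h h'
    obtain ⟨a, rfl⟩ := isConj_iff.mp hu
    obtain ⟨c, hc⟩ := isConj_iff.mp (key x y hco a h)
    have h2 := key (x * y) y⁻¹ hco' c h'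
    rw [mul_inv_cancel_right, hc] at h2
    rwa [show a * x * a⁻¹ * (h * y * h⁻¹ * (h' * y * h'⁻¹)⁻¹) = a * x * a⁻¹ * (h * y * h⁻¹) * (h' * y⁻¹ * h'⁻¹) by group]
  let T : Subgroup G :=
    { carrier := {n | ∀ u : G, IsConj x u ↔ IsConj x (u * n)}
      one_mem' := fun u => by rw [mul_one]
      mul_mem' := fun {a b} ha hb u => (ha u).trans (by rw [← mul_assoc]; exact hb (u * a))
      inv_mem' := fun {a} ha u => by
        have := (ha (u * a⁻¹)).symm
        rwa [inv_mul_cancel_right] at this }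
  haveI hT : T.Normal := ⟨fun n hn g u => by
    have hcj : ∀ v : G, IsConj x (g * v * g⁻¹) ↔ IsConj x v := fun v =>
      ⟨fun h => h.trans (isConj_iff.mpr ⟨g⁻¹, by group⟩), fun h => h.trans (isConj_iff.mpr ⟨g, rfl⟩)⟩
    have := hn (g⁻¹ * u * g)
    rw [← hcj (g⁻¹ * u * g), ← hcj (g⁻¹ * u * g * n)] at this
    rwa [show g * (g⁻¹ * u * g) * g⁻¹ = u by group, show g * (g⁻¹ * u * g * n) * g⁻¹ = u * (g * n * g⁻¹) by group]
      at this⟩
  have hgen : ∀ h h' : G, h * y * h⁻¹ * (h' * y * h'⁻¹)⁻¹ ∈ T := fun h h' u => by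
    refine ⟨fun hu => step u hu h h', fun hu => ?_⟩
    have := step _ hu h' h
    rwa [show u * (h * y * h⁻¹ * (h' * y * h'⁻¹)⁻¹) * (h' * y * h'⁻¹ * (h * y * h⁻¹)⁻¹) = u by group] at this
  rcases hT.eq_bot_or_eq_top with h | h
  · haveI := mono_of_simple hna
    refine class_comm_absurd hy fun g => ?_
    have := hgen g 1
    rw [h, mem_bot] at this
    have e1 : g * y * g⁻¹ = y := by simpa using mul_inv_eq_one.mp this
    rw [e1]
  · have h1 := (show x⁻¹ ∈ T from h ▸ mem_top _) x
    rw [mul_inv_cancel] at h1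
    exact hx (isConj_one_left.mp (h1.mp (IsConj.refl x)))

theorem cc_mul_ne' [IsSimpleGroup G] (hna : ¬ IsMulCommutative G) {x y : G} (hx : x ≠ 1) (hy : y ≠ 1)
    (hco : (centralizer ({x} : Set G)).index.Coprime (centralizer ({y} : Set G)).index) :
    cc (x * y) ≠ cc y := by
  have hinv : ∀ z : G, centralizer ({z⁻¹} : Set G) = centralizer {z} := fun z => by
    ext g
    simp only [mem_cent]
    exact ⟨fun h => (Commute.inv_right_iff.mp (show Commute g z⁻¹ from h)).eq, fun h => (show Commute g z from h).inv_right.eq⟩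
  have hc : ∀ z : G, cc z⁻¹ = cc z := fun z => congrArg (fun H : Subgroup G => Nat.card H) (hinv z)
  have h := cc_mul_ne hna (inv_ne_one.mpr hy) (inv_ne_one.mpr hx) (by rw [hinv, hinv]; exact hco.symm)
  rwa [← mul_inv_rev, hc, hc] at h

end CfsgLib.ConjRankFour
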