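import Cfsg.Agent.Lib.ConjRankFour.Bad
import Cfsg.Agent.S0205

set_option autoImplicit false
set_option linter.style.haveILetI false

/-!
The hypothesis that one value lies below each centralizer order of an involution, and the structure it forces
on the centralizers of involutions without a normal 2-complement.
-/

namespace CfsgLib.ConjRankFour

open Cfsg Subgroup CfsgLib.ConjRankThree

universe u

/-- Below the order of the centralizer of an involution there is at most the one value `m`. -/
def Inv (G : Type u) [Group G] (m : ℕ) : Prop :=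
  ∀ v : G, orderOf v = 2 → ∀ x : G, x ≠ 1 → cc x ∣ cc v → cc x ≠ cc v → cc x = m

variable {G : Type u} [Group G] [Finite G]

theorem cc_sub (H : Subgroup G) (x : H) : cc x = Nat.card (H ⊓ centralizer ({(x : G)} : Set G) : Subgroup G) := by
  have e : centralizer ({x} : Set H) = (H ⊓ centralizer ({(x : G)} : Set G)).subgroupOf H := by
    ext y
    simp only [mem_subgroupOf, mem_inf, y.2, true_and, mem_cent]
    exact ⟨fun h => congrArg Subtype.val h, fun h => Subtype.ext h⟩
  rw [cc, e]
  exact Nat.card_congr (subgroupOfEquivOfLe inf_le_left).toEquiv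

theorem self_center (t : G) : (⟨t, self_mem t⟩ : centralizer ({t} : Set G)) ∈ center (centralizer ({t} : Set G)) :=
  mem_center_iff.mpr fun g => Subtype.ext (mem_cent.mp g.2)

/-- An element of a group with normal 2-complement of odd order lies in the complement. -/
theorem exists_odd_complement (h : HasNormalPComplement 2 G) :
    ∃ N : Subgroup G, N.Normal ∧ Odd (Nat.card N) ∧ (∃ k, N.index = 2 ^ k) ∧
      ∀ a : G, Odd (orderOf a) → a ∈ N := by
  haveI := Fact.mk Nat.prime_two
  obtain ⟨P, N, hN, hc⟩ := h
  haveI := hN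
  have hidx : N.index = Nat.card (P : Subgroup G) := hc.symm.index_eq_card
  have hodd : Odd (Nat.card N) := by
    rw [← hc.index_eq_card]
    exact Nat.not_even_iff_odd.mp fun he => P.not_dvd_index he.two_dvd
  obtain ⟨k, hk⟩ := P.2.exists_card_eq
  have hq : IsPGroup 2 (G ⧸ N) := IsPGroup.of_card (n := k) (by rw [← index_eq_card, hidx, hk])
  refine ⟨N, hN, hodd, ⟨k, hidx.trans hk⟩, fun a ha => ?_⟩
  rw [← QuotientGroup.eq_one_iff, ← orderOf_eq_one_iff]
  obtain ⟨j, hj⟩ := IsPGroup.iff_orderOf.mp hq (a : G ⧸ N)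
  have hd : orderOf (a : G ⧸ N) ∣ orderOf a := orderOf_map_dvd (QuotientGroup.mk' N) a
  rw [hj] at hd ⊢
  exact Nat.eq_one_of_dvd_coprimes ((Nat.coprime_two_left.mpr ha).pow_left j) dvd_rfl hd

theorem isSolvable_of_hasNormalPComplement (h : HasNormalPComplement 2 G) : Group.IsSolvable G := by
  haveI := Fact.mk Nat.prime_two
  obtain ⟨N, hN, hodd, ⟨k, hk⟩, -⟩ := exists_odd_complement h
  haveI := hN
  haveI := Cfsg.Agent.S0205.result hodd
  haveI : Group.IsNilpotent (G ⧸ N) := (IsPGroup.of_card (p := 2) (n := k) (by rw [← index_eq_card, hk])).isNilpotent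
  exact Group.isSolvable_of_ker_le_range N.subtype (QuotientGroup.mk' N) (by simp)

variable {m : ℕ} (hI : Inv G m)
include hI

section Bad

variable {t : G} (ht : orderOf t = 2) (hbad : ¬ HasNormalPComplement 2 (centralizer ({t} : Set G)))
include ht hbad

theorem cc_odd_eq {z : centralizer ({t} : Set G)} (hz : Odd (orderOf z)) (hzc : z ∉ center _) : cc z = m := by
  have hco : (orderOf t).Coprime (orderOf (z : G)) := by
    rw [ht, Subgroup.orderOf_coe]
    exact Nat.coprime_two_left.mpr hz
  have hmul := mul_cent (show Commute t (z : G) from (mem_cent.mp z.2).symm) hco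
  rw [cc_sub, ← hmul]
  refine hI t ht _ (mul_ne_one_of_coprime (fun e => by simp [e] at ht) hco)
    (cc_le_of_le (hmul.le.trans inf_le_left)) fun e => hzc ?_
  have h1 : centralizer ({t * (z : G)} : Set G) = centralizer ({t} : Set G) :=
    eq_of_le_of_card_ge (hmul.le.trans inf_le_left) e.ge
  exact mem_center_iff.mpr fun g => Subtype.ext (mem_cent.mp ((hmul ▸ h1.ge g.2).2))

theorem exists_odd_noncentral : ∃ z : centralizer ({t} : Set G), Odd (orderOf z) ∧ z ∉ center _ := by
  by_contra hall
  push Not at hall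
  haveI := Fact.mk Nat.prime_two
  refine hbad (Cfsg.FusionSystem.hasNormalPComplement_of_centralizes (Classical.arbitrary _) fun Q _ g _ hg =>
    fun a _ => mem_center_iff.mp (hall g (Nat.coprime_two_right.mp hg)) a)

theorem m_spec : m ∣ cc t ∧ m < cc t := by
  obtain ⟨z, hz, hzc⟩ := exists_odd_noncentral hI ht hbad
  have e := cc_odd_eq hI ht hbad hz hzc
  have h1 : cc z ∣ cc t := card_subgroup_dvd_card _
  refine ⟨e ▸ h1, e ▸ lt_of_le_of_ne (Nat.le_of_dvd (cc_pos t) h1) fun e' => hzc ?_⟩
  exact mem_center_iff.mpr fun g => mem_cent.mp (eq_top_of_card_eq (centralizer {z}) e' ▸ mem_top g)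

theorem minC {w : G} (hw : w ≠ 1) (e : cc w = m) : MinC w := by
  obtain ⟨hd, hlt⟩ := m_spec hI ht hbad
  refine ⟨hw, fun y hy hyw => ?_⟩
  rw [e] at hyw ⊢
  refine hI t ht y hy (hyw.trans hd) fun e' => ?_
  have := Nat.le_of_dvd (by rw [← e]; exact cc_pos w) hyw
  omega

theorem exists_complement : ∃ D : Subgroup (centralizer ({t} : Set G)),
    Group.IsNilpotent D ∧ ¬ 2 ∣ Nat.card D ∧ ∃ k : ℕ, D.index = 2 ^ k :=
  exists_nilpotent_complement Nat.prime_two (m := Nat.card (centralizer ({t} : Set G)) / m) fun x hx hxc => by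
    rw [← cc_odd_eq hI ht hbad (Nat.coprime_two_right.mp hx) hxc,
      ← (centralizer ({x} : Set (centralizer ({t} : Set G)))).card_mul_index]
    exact (Nat.mul_div_cancel_left _ (cc_pos x)).symm

theorem isSolvable_cent : Group.IsSolvable (centralizer ({t} : Set G)) := by
  haveI := Fact.mk Nat.prime_two
  obtain ⟨D, hn, hd, k, hk⟩ := exists_complement hI ht hbad
  obtain ⟨S⟩ : Nonempty (Sylow 2 (centralizer ({t} : Set G))) := inferInstance
  exact isSolvable_of_complement Nat.prime_two hn hd hk S.2 (by rw [S.card_eq_multiplicity])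

theorem badData : BadData (centralizer ({t} : Set G)) m := by
  haveI := Fact.mk Nat.prime_two
  obtain ⟨hdvd, hlt⟩ := m_spec hI ht hbad
  have hm : m ≠ 0 := fun e => by
    rw [e, zero_dvd_iff] at hdvd
    exact (cc_pos t).ne' hdvd
  refine ⟨hm, isSolvable_cent hI ht hbad, ?_, hbad, fun z => cc_odd_eq hI ht hbad, ?_⟩
  · set M := centralizer ({t} : Set G)
    obtain ⟨D, hn, hd, k, hk⟩ := exists_complement hI ht hbad
    have hle : pPrimeCore 2 M ≤ D := by
      have hcard := CfsgLib.card_sup_dvd_mul D (pPrimeCore 2 M)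
      have hco : (Nat.card (D ⊔ pPrimeCore 2 M : Subgroup M)).Coprime 2 :=
        Nat.Coprime.coprime_dvd_left hcard (Nat.Coprime.mul_left
          (Nat.prime_two.coprime_iff_not_dvd.mpr hd).symm (CfsgLib.card_pPrimeCore_coprime 2))
      have h1 : (D ⊔ pPrimeCore 2 M : Subgroup M).index ∣ 2 ^ k := hk ▸ index_dvd_of_le le_sup_left
      have h2 : D.relIndex (D ⊔ pPrimeCore 2 M) ∣ 2 ^ k := hk ▸ relIndex_dvd_index_of_le le_sup_left
      have h3 : D.relIndex (D ⊔ pPrimeCore 2 M) ∣ Nat.card (D ⊔ pPrimeCore 2 M : Subgroup M) :=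
        index_dvd_card _
      have h4 := Nat.eq_one_of_dvd_coprimes (hco.pow_right k) h3 h2
      exact le_sup_right.trans (relIndex_eq_one.mp h4)
    haveI := hn
    exact Group.nilpotent_of_mulEquiv (subgroupOfEquivOfLe hle)
  · rintro u ⟨k, hk2, hk⟩ hnc
    have huG : orderOf (u : G) = 2 ^ k := by rw [Subgroup.orderOf_coe, hk]
    have htu : Commute t (u : G) := (mem_cent.mp u.2).symm
    set v := (u : G) ^ 2 ^ (k - 1) with hv
    have hkk : 2 ^ k = 2 ^ (k - 1) * 2 := by rw [← pow_succ]; congr 1; omega
    have hv2 : orderOf v = 2 := by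
      rw [hv, orderOf_pow_of_dvd (by positivity) (by rw [huG, hkk]; exact dvd_mul_right _ _), huG, hkk,
        Nat.mul_div_cancel_left _ (by positivity)]
    have hv' : (t * (u : G)) ^ 2 ^ (k - 1) = v := by
      rw [htu.mul_pow, show 2 ^ (k - 1) = 2 * 2 ^ (k - 2) by rw [← pow_succ']; congr 1; omega, pow_mul t,
        ← ht, pow_orderOf_eq_one, one_pow, one_mul, hv]
      congr 1
      rw [ht, ← pow_succ']
      congr 1
      omega
    have hu1 : (u : G) ≠ 1 := fun e => by
      rw [e, orderOf_one] at huG
      exact (Nat.one_lt_pow (by omega) one_lt_two).ne huG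
    have htu1 : t * (u : G) ≠ 1 := fun e => by
      rw [e, one_pow] at hv'
      rw [← hv', orderOf_one] at hv2
      omega
    obtain ⟨w, hw, hwe, hwo⟩ : ∃ w : G, w ≠ 1 ∧ (w = u ∨ w = t * u) ∧ cc w = m := by
      have hle1 : centralizer ({(u : G)} : Set G) ≤ centralizer {v} := cent_le_pow _ _
      have hle2 : centralizer ({t * (u : G)} : Set G) ≤ centralizer {v} := hv' ▸ cent_le_pow _ _
      by_cases e0 : cc (u : G) = m
      · exact ⟨_, hu1, Or.inl rfl, e0⟩
      have e1 : cc (u : G) = cc v := by_contra fun e => e0 (hI v hv2 _ hu1 (cc_le_of_le hle1) e)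
      by_cases e2 : cc (t * (u : G)) = cc v
      · exfalso
        have h1 := (eq_of_le_of_card_ge hle1 e1.ge).ge
        have h2 := (eq_of_le_of_card_ge hle2 e2.ge).ge
        have hvt : centralizer ({v} : Set G) ≤ centralizer {t} := fun g hg => mem_cent.mpr (by
          have a := mem_cent.mp (h1 hg)
          have b := mem_cent.mp (h2 hg)
          refine mul_right_cancel (b := (u : G)) ?_
          calc g * t * (u : G) = g * (t * u) := by group
            _ = t * u * g := b
            _ = t * (g * u) := by rw [a]; group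
            _ = _ := by group)
        by_cases e3 : cc v = cc t
        · refine hnc (mem_center_iff.mpr fun g => Subtype.ext ?_)
          exact mem_cent.mp (h1 ((eq_of_le_of_card_ge hvt e3.ge).ge g.2))
        · exact e0 (e1.trans (hI t ht v (fun e => by rw [e, orderOf_one] at hv2; omega) (cc_le_of_le hvt) e3))
      · exact ⟨_, htu1, Or.inr rfl, hI v hv2 _ htu1 (cc_le_of_le hle2) e2⟩
    have hmin := minC hI ht hbad hw hwo
    have hw2 : ∃ j, orderOf w = 2 ^ j := by
      rcases hwe with rfl | rfl
      · exact ⟨k, huG⟩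
      · have : (t * (u : G)) ^ 2 ^ k = 1 := by
          rw [hkk, pow_mul, hv', ← hv2, pow_orderOf_eq_one]
        obtain ⟨j, -, hj⟩ := (Nat.dvd_prime_pow Nat.prime_two).mp (orderOf_dvd_of_pow_eq_one this)
        exact ⟨j, hj⟩
    have hcent : ∀ c : centralizer ({t} : Set G), c * u = u * c ↔ (c : G) * w = w * c := by
      intro c
      have hct : Commute (c : G) t := mem_cent.mp c.2
      rcases hwe with rfl | rfl
      · exact ⟨fun h => congrArg Subtype.val h, fun h => Subtype.ext h⟩
      · refine ⟨fun h => (hct.mul_right (congrArg Subtype.val h)).eq, fun h => Subtype.ext ?_⟩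
        have h' : Commute (c : G) (t⁻¹ * (t * (u : G))) := hct.inv_right.mul_right h
        rw [inv_mul_cancel_left] at h'
        exact h'.eq
    have htw : Commute t w := by
      rcases hwe with rfl | rfl
      · exact htu
      · exact (Commute.refl t).mul_right htu
    have hle : ∀ r : G, Odd (orderOf r) → r * w = w * r →
        centralizer ({w} : Set G) ≤ centralizer ({r} : Set G) := fun r hr hrw => by
      obtain ⟨j, hj⟩ := hw2
      exact hmin.le (show Commute w r from hrw.symm) (by rw [hj]; exact (Nat.coprime_two_left.mpr hr).pow_left j)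
    refine ⟨fun r hr hru c hcu => Subtype.ext ?_, fun q hq hq2 => ?_⟩
    · exact mem_cent.mp (hle r (by rwa [Subgroup.orderOf_coe]) ((hcent r).mp hru) (mem_cent.mpr ((hcent c).mp hcu)))
    · haveI := Fact.mk hq
      have hcu : cc u = Nat.card (centralizer {t} ⊓ centralizer ({w} : Set G) : Subgroup G) := by
        rw [cc_sub]
        refine congrArg (fun H : Subgroup G => Nat.card H) (SetLike.ext fun c => ?_)
        simp only [mem_inf]
        refine and_congr_right fun hc => ?_
        rw [mem_cent, mem_cent, ← hcent ⟨c, hc⟩]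
        exact ⟨fun h => Subtype.ext h, fun h => congrArg Subtype.val h⟩
      obtain ⟨R, hRC, hR, hRc⟩ := exists_qgroup_le q (centralizer ({w} : Set G))
      rw [show (Nat.card (centralizer ({w} : Set G))).factorization q = m.factorization q from
        congrArg (fun n => n.factorization q) hwo] at hRc
      have hRt : R ≤ centralizer {t} ⊓ centralizer ({w} : Set G) := fun r hr => ⟨by
        have h1 := hle r (odd_orderOf hq2 hR hr) (mem_cent.mp (hRC hr))
        exact mem_cent_symm (h1 (mem_cent.mpr htw.eq)), hRC hr⟩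
      refine le_antisymm ?_ ?_
      · refine (Nat.factorization_le_iff_dvd (cc_pos u).ne' hm).mpr ?_ q
        rw [hcu, ← hwo]
        exact card_dvd_of_le inf_le_right
      · rw [← hq.pow_dvd_iff_le_factorization (cc_pos u).ne', hcu, ← hRc]
        exact card_dvd_of_le hRt

end Bad

end CfsgLib.ConjRankFour
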