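import Cfsg.Agent.Lib.ConjRankThree.Exceptional
import Cfsg.Agent.Lib.CharTheory.Schur

set_option autoImplicit false
set_option linter.style.haveILetI false
set_option linter.unusedSectionVars false

/-!
An element whose conjugates meet those of a regular abelian subgroup in one class of products fixes one point.
-/

namespace CfsgLib.ConjRankFour

open Subgroup Cfsg CfsgLib.CharTheory CfsgLib.ConjRankThree
open scoped IsMulCommutative Classical

universe u

variable {G : Type u} [Group G] [Fintype G] (S : Reg G)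

theorem finite_chs : Finite S.Chs := by
  haveI : IsMulCommutative S.W := ⟨⟨fun a b => Subtype.ext (S.comm _ a.2 _ b.2)⟩⟩
  haveI : Finite (S.W →* ℂˣ) :=
    Finite.of_equiv _ (CommGroup.monoidHom_mulEquiv_of_hasEnoughRootsOfUnity S.W ℂ).some.symm.toEquiv
  infer_instance

/-- The constituents of the permutation character lying over non-principal linear characters. -/
noncomputable def conss : Finset (IrrCharacter G) :=
  haveI := finite_chs S
  haveI := Fintype.ofFinite S.Chs
  Finset.univ.image fun φ : S.Chs => S.cons φ.1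

theorem mem_conss {f : IrrCharacter G} : f ∈ conss S ↔ ∃ φ : S.Chs, S.cons φ.1 = f := by
  unfold conss
  simp

theorem perm_eq (g : G) : S.perm g = 1 + ∑ f ∈ conss S, f.1 g := by
  haveI := finite_chs S
  haveI := Fintype.ofFinite S.Chs
  haveI := Fintype.ofFinite (G ⧸ S.M)
  choose n hn using fun ψ : IrrCharacter G => classInner_char_nat S.perm_char (isCharacter_of_irr ψ.2)
  choose d hd hdeq using fun ψ : IrrCharacter G => irr_degree_pos ψ.2
  set o : IrrCharacter G := ⟨fun _ => 1, isIrrCharacter_one⟩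
  have ho : n o = 1 := by
    have := hn o
    rw [S.perm_one] at this
    exact_mod_cast this.symm
  have hd1 : d o = 1 := by
    have := hdeq o
    simp only [o] at this
    exact_mod_cast this.symm
  have hone : ∀ f ∈ conss S, n f = 1 := by
    intro f hf
    obtain ⟨φ, rfl⟩ := (mem_conss S).mp hf
    exact_mod_cast ((hn _).symm.trans (S.cons_spec φ.1).1)
  have hno : o ∉ conss S := by
    intro hf
    obtain ⟨φ, e1⟩ := (mem_conss S).mp hf
    have h1 := (S.cons_spec φ.1).2.1
    rw [e1] at h1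
    have h2 : S.mult o.1 φ.1 = 0 := by
      unfold Reg.mult
      rw [← classInner_comm, classInner, ← map_zero (starRingEnd ℂ)]
      congr 1
      simp only [o, map_one, mul_one, Reg.lin, S.lin_sum φ.1 φ.2, mul_zero]
    exact zero_ne_one (h2.symm.trans h1)
  have hfib : ∀ f : IrrCharacter G, (Finset.univ.filter fun φ : S.Chs => S.cons φ.1 = f).card ≤ d f := by
    intro f
    choose k hk using fun θ : IrrCharacter S.W =>
      classInner_char_nat (isCharacter_restrict (isCharacter_of_irr f.2) S.W) (isCharacter_of_irr θ.2)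
    have h1 : (d f : ℂ) = ((∑ θ : IrrCharacter S.W, k θ : ℕ) : ℂ) := by
      rw [← hdeq, Nat.cast_sum]
      have h2 := congrFun (eq_sum_irr (isClassFunction_char (isCharacter_restrict (isCharacter_of_irr f.2) S.W))) 1
      simp only [OneMemClass.coe_one, Finset.sum_apply, Pi.smul_apply, smul_eq_mul] at h2
      rw [h2]
      refine Finset.sum_congr rfl fun θ _ => ?_
      rw [hk, degree_one_of_commutative (fun a b => Subtype.ext (S.comm _ a.2 _ b.2)) θ.2, mul_one]
    rw [Nat.cast_inj] at h1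
    rw [h1, Finset.card_eq_sum_ones]
    let L : S.Chs ↪ IrrCharacter S.W :=
      ⟨fun φ => ⟨S.lin φ.1, S.lin_irr φ.1⟩, fun a b h => Subtype.ext (S.lin_inj (congrArg Subtype.val h))⟩
    refine le_trans (le_of_eq ?_) (Finset.sum_le_sum_of_subset (Finset.subset_univ
      (Finset.map L (Finset.univ.filter fun φ : S.Chs => S.cons φ.1 = f))))
    rw [Finset.sum_map]
    refine Finset.sum_congr rfl fun φ hφ => ?_
    have h2 := (S.cons_spec φ.1).2.1
    rw [(Finset.mem_filter.mp hφ).2] at h2
    exact_mod_cast h2.symm.trans (hk (L φ))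
  have hdeg : ∑ ψ : IrrCharacter G, n ψ * d ψ = Nat.card S.W := by
    have h1 : ((∑ ψ : IrrCharacter G, n ψ * d ψ : ℕ) : ℂ) = Nat.card S.W := by
      have h2 := congrFun (eq_sum_irr (isClassFunction_char S.perm_char)) 1
      simp only [Finset.sum_apply, Pi.smul_apply, smul_eq_mul] at h2
      rw [Nat.cast_sum, show S.perm 1 = _ from S.perm_W 1, if_pos rfl] at *
      rw [h2]
      exact Finset.sum_congr rfl fun ψ _ => by rw [Nat.cast_mul, hn, hdeq]
    exact_mod_cast h1
  have hlow : Nat.card S.Chs ≤ ∑ f ∈ conss S, n f * d f := by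
    rw [Nat.card_eq_fintype_card, ← Finset.card_univ, Finset.card_eq_sum_card_fiberwise
      (t := conss S) (f := fun φ : S.Chs => S.cons φ.1) (fun φ _ => (mem_conss S).mpr ⟨φ, rfl⟩)]
    refine Finset.sum_le_sum fun f hf => ?_
    rw [hone f hf, one_mul]
    exact hfib f
  have hsplit : ∀ F : IrrCharacter G → ℕ,
      ∑ ψ, F ψ = F o + ∑ f ∈ conss S, F f + ∑ ψ ∈ Finset.univ \ insert o (conss S), F ψ := fun F => by
    rw [← Finset.sum_sdiff (Finset.subset_univ (insert o (conss S))), Finset.sum_insert hno, add_comm]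
  rw [hsplit, ho, hd1, one_mul] at hdeg
  have := S.card_Chs
  have hz : ∑ ψ ∈ Finset.univ \ insert o (conss S), n ψ * d ψ = 0 := by omega
  have e := congrFun (eq_sum_irr (isClassFunction_char S.perm_char)) g
  simp only [Finset.sum_apply, Pi.smul_apply, smul_eq_mul] at e
  rw [e, ← Finset.sum_subset (Finset.subset_univ (insert o (conss S))) fun ψ _ hψ => ?_, Finset.sum_insert hno]
  · rw [hn, ho, Nat.cast_one, one_mul]
    refine congrArg₂ (· + ·) rfl (Finset.sum_congr rfl fun f hf => ?_)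
    rw [hn, hone f hf, Nat.cast_one, one_mul]
  · have h4 := Finset.sum_eq_zero_iff.mp hz ψ (by simp [hψ])
    rw [hn, (mul_eq_zero.mp h4).resolve_right (hd ψ).ne', Nat.cast_zero, zero_mul]

theorem cons_apply_eq {f f' : IrrCharacter G} (hf : f ∈ conss S) (hf' : f' ∈ conss S) {g : G}
    (hg : g = 1 ∨ ∀ a : G, a⁻¹ * g * a ∉ S.W) : f.1 g = f'.1 g := by
  obtain ⟨φ, rfl⟩ := (mem_conss S).mp hf
  obtain ⟨χ, rfl⟩ := (mem_conss S).mp hf'
  by_cases h : S.cons φ.1 = S.cons χ.1
  · rw [h]
  refine sub_eq_zero.mp ?_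
  rw [← Pi.sub_apply, ← S.cons_eq_or_sub φ.1 χ.1 φ.2 χ.2 h]
  rcases hg with rfl | hg
  · rw [indFun_apply_one]
    simp [Reg.lin]
  · show (Nat.card S.W : ℂ)⁻¹ * _ = 0
    rw [Finset.sum_eq_zero fun a _ => extendByZero_of_not_mem _ _ (hg a), mul_zero]

/-- The element fixes a single coset. -/
theorem mem_of_conj_mem {y : G} (hy : y ∈ S.M) (hy1 : y ≠ 1) (hW : ∃ x ∈ S.W, x ≠ 1)
    (hcore : ¬ ∀ a : G, a⁻¹ * y * a ∈ S.M)
    (hprod : ∀ x ∈ S.W, x ≠ 1 → ∀ a : G, ∃ c k : G, c * y = y * c ∧ k * x = x * k ∧ a = c * k)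
    (hz : ∀ x ∈ S.W, x ≠ 1 → ∀ a : G, a⁻¹ * (x * y) * a ∉ S.W) {a : G} (ha : a⁻¹ * y * a ∈ S.M) : a ∈ S.M := by
  haveI := Fintype.ofFinite (G ⧸ S.M)
  have hyW : ∀ a : G, a⁻¹ * y * a ∉ S.W := by
    intro a h
    have h1 := S.ti a⁻¹ _ h (by simpa [mul_assoc] using hy)
    exact hy1 (by rw [show y = a * (a⁻¹ * y * a) * a⁻¹ by group, h1]; group)
  have key : ∀ χ : IrrCharacter G, ∀ x ∈ S.W, x ≠ 1 → χ.1 x * χ.1 y = χ.1 1 * χ.1 (x * y) := by
    intro χ x hx hx1
    have hne : χ.1 1 ≠ 0 := irr_ne_zero χ.2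
    have h := sum_conj_mul_char χ.2 x y
    have hc : ∀ a : G, χ.1 (a * x * a⁻¹ * y) = χ.1 (x * y) := by
      intro a
      obtain ⟨c, k, hc, hk, rfl⟩ := hprod x hx hx1 a
      rw [show c * k * x * (c * k)⁻¹ * y = c * (x * y) * c⁻¹ from ?_, isClassFunction_irr χ.2]
      calc c * k * x * (c * k)⁻¹ * y = c * (k * x) * k⁻¹ * c⁻¹ * y := by group
        _ = c * x * (c⁻¹ * y) := by rw [hk]; group
        _ = c * x * (y * c⁻¹) := by rw [(show Commute c y from hc).inv_left.eq]
        _ = _ := by group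
    rw [Finset.sum_congr rfl fun a _ => hc a, Finset.sum_const, Finset.card_univ, nsmul_eq_mul,
      ← Nat.card_eq_fintype_card, eq_div_iff hne] at h
    exact (mul_left_cancel₀ (Nat.cast_ne_zero.mpr Nat.card_pos.ne')
      ((mul_assoc _ _ _).symm.trans h)).symm.trans (mul_comm _ _)
  have hfix : S.perm y = 1 → a ∈ S.M := by
    intro h
    have h' : Nat.card (MulAction.fixedBy (G ⧸ S.M) y) = 1 := by
      exact_mod_cast (show ((Nat.card (MulAction.fixedBy (G ⧸ S.M) y) : ℕ) : ℂ) = 1 from h)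
    haveI := (Nat.card_eq_one_iff_unique.mp h').1
    have h1 : ((1 : G) : G ⧸ S.M) ∈ MulAction.fixedBy (G ⧸ S.M) y := by
      show ((y * 1 : G) : G ⧸ S.M) = ((1 : G) : G ⧸ S.M)
      exact QuotientGroup.eq.mpr (by simpa using hy)
    have h2 : ((a : G) : G ⧸ S.M) ∈ MulAction.fixedBy (G ⧸ S.M) y := by
      show ((y * a : G) : G ⧸ S.M) = (a : G ⧸ S.M)
      refine QuotientGroup.eq.mpr ?_
      have := inv_mem ha
      simpa [mul_assoc] using this
    have := congrArg Subtype.val (Subsingleton.elim (⟨_, h1⟩ : MulAction.fixedBy (G ⧸ S.M) y) ⟨_, h2⟩)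
    simpa using QuotientGroup.eq.mp this
  refine hfix ?_
  obtain ⟨x, hx, hx1⟩ := hW
  by_cases hone : ∃ f f' : IrrCharacter G, f ∈ conss S ∧ f' ∈ conss S ∧ f ≠ f'
  · obtain ⟨f, f', hf, hf', hne⟩ := hone
    have h0 : f.1 y = 0 := by
      by_contra hc
      obtain ⟨φ, rfl⟩ := (mem_conss S).mp hf
      have hres : ∀ w : S.W, (S.cons φ.1).1 (w : G) = f'.1 (w : G) := by
        intro w
        by_cases hw : (w : G) = 1
        · exact cons_apply_eq S hf hf' (Or.inl hw)
        · have h1 := key (S.cons φ.1) w w.2 hw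
          have h2 := key f' w w.2 hw
          rw [← cons_apply_eq S hf hf' (Or.inr hyW), ← cons_apply_eq S hf hf' (Or.inl rfl),
            ← cons_apply_eq S hf hf' (Or.inr (hz w w.2 hw)), ← h1] at h2
          exact (mul_right_cancel₀ hc h2).symm
      obtain ⟨χ, hχ⟩ := (mem_conss S).mp hf'
      have h1 := (S.cons_spec φ.1).2.1
      have h2 := (S.cons_spec φ.1).2.2 f' (by rw [← hχ, (S.cons_spec χ.1).1]; exact one_ne_zero) (Ne.symm hne)
      unfold Reg.mult at h1 h2
      rw [funext hres] at h1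
      exact zero_ne_one (h2.symm.trans h1)
    rw [perm_eq, Finset.sum_eq_zero fun f'' hf'' => (cons_apply_eq S hf'' hf (Or.inr hyW)).trans h0, add_zero]
  · push Not at hone
    have hne : Nonempty S.Chs := by
      by_contra he
      rw [not_nonempty_iff] at he
      have := S.card_Chs
      rw [Nat.card_of_isEmpty, zero_add] at this
      exact hx1 (mem_bot.mp (eq_bot_of_card_eq S.W this.symm ▸ hx))
    obtain ⟨φ⟩ := hne
    have hmem : S.cons φ.1 ∈ conss S := (mem_conss S).mpr ⟨φ, rfl⟩
    have hsingle : ∀ g, S.perm g = 1 + (S.cons φ.1).1 g := fun g => by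
      rw [perm_eq, Finset.sum_eq_single _ (fun b hb hbne => absurd (hone b _ hb hmem) hbne)
        (fun h => absurd hmem h)]
    have h := key (S.cons φ.1) x hx hx1
    have ex : S.perm x = 0 := (S.perm_W ⟨x, hx⟩).trans (if_neg fun e => hx1 (congrArg Subtype.val e))
    have e1 : S.perm 1 = Nat.card S.W := (S.perm_W 1).trans (if_pos rfl)
    rw [show (S.cons φ.1).1 x = -1 by linear_combination ex - hsingle x,
      show (S.cons φ.1).1 y = S.perm y - 1 by rw [hsingle y]; ring,
      show (S.cons φ.1).1 1 = (Nat.card S.W : ℂ) - 1 by linear_combination e1 - hsingle 1,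
      show (S.cons φ.1).1 (x * y) = S.perm (x * y) - 1 by rw [hsingle (x * y)]; ring] at h
    have hW2 : 2 ≤ Nat.card S.W := by
      by_contra hlt
      have : Nat.card S.W = 1 := by
        have := Nat.card_pos (α := S.W)
        omega
      exact hx1 (mem_bot.mp (eq_bot_of_card_eq S.W this ▸ hx))
    have hpy : 1 ≤ Nat.card (MulAction.fixedBy (G ⧸ S.M) y) := by
      haveI : Nonempty (MulAction.fixedBy (G ⧸ S.M) y) := ⟨⟨((1 : G) : G ⧸ S.M), by
        show ((y * 1 : G) : G ⧸ S.M) = ((1 : G) : G ⧸ S.M)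
        exact QuotientGroup.eq.mpr (by simpa using hy)⟩⟩
      exact Nat.card_pos
    have hpy' : Nat.card (MulAction.fixedBy (G ⧸ S.M) y) ≠ Nat.card S.W := fun e => hcore fun b => by
      have hsurj : ∀ q : G ⧸ S.M, q ∈ MulAction.fixedBy (G ⧸ S.M) y := by
        have : MulAction.fixedBy (G ⧸ S.M) y = Set.univ := by
          refine Set.eq_of_subset_of_ncard_le (Set.subset_univ _) ?_
          rw [Set.ncard_univ, ← Nat.card_coe_set_eq, e, S.card_X]
        intro q; rw [this]; trivial
      have h1 := QuotientGroup.eq.mp (show ((y * b : G) : G ⧸ S.M) = (b : G ⧸ S.M) from hsurj b)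
      have := inv_mem h1
      simpa [mul_assoc] using this
    unfold Reg.perm SmallPartitionChars.fixChar at h ⊢
    generalize hA : Nat.card (MulAction.fixedBy (G ⧸ S.M) y) = A at h hpy hpy' ⊢
    generalize hB : Nat.card (MulAction.fixedBy (G ⧸ S.M) (x * y)) = B at h
    generalize hN : Nat.card S.W = N at h hW2 hpy'
    have hi : (1 : ℤ) - A = ((N : ℤ) - 1) * ((B : ℤ) - 1) := by
      have : ((1 : ℤ) - A : ℂ) = (((N : ℤ) - 1) * ((B : ℤ) - 1) : ℂ) := by push_cast; linear_combination h
      exact_mod_cast this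
    rcases Nat.lt_trichotomy B 1 with hB1 | hB1 | hB1
    · obtain rfl : B = 0 := by omega
      push_cast at hi
      exact absurd (show A = N by omega) hpy'
    · subst hB1
      simp only [Nat.cast_one, sub_self, mul_zero] at hi
      obtain rfl : A = 1 := by omega
      exact Nat.cast_one
    · exfalso
      have h1 : (1 : ℤ) ≤ ((N : ℤ) - 1) * ((B : ℤ) - 1) := one_le_mul_of_one_le_of_one_le (by omega) (by omega)
      omega

end CfsgLib.ConjRankFour
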