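import Cfsg.Agent.Lib.ConjRankFour.InvSylow

set_option autoImplicit false
set_option linter.style.haveILetI false

/-!
The simple groups satisfying the hypothesis `Inv`.
-/

namespace CfsgLib.ConjRankFour

open Cfsg Subgroup CfsgLib.ConjRankThree

universe u

variable {G : Type u} [Group G] [Finite G]

/-- The simple groups in which at most one value lies below each centralizer order of an involution. -/
theorem classify [IsSimpleGroup G] (hna : ¬ IsMulCommutative G) {m : ℕ} (hI : Inv G m) :
    (∃ (F : Type) (_ : Field F) (_ : Fintype F), 3 < Fintype.card F ∧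
        Nonempty (G ≃* Matrix.ProjectiveSpecialLinearGroup (Fin 2) F)) ∨
      Cfsg.Lie.IsoSuzuki G ∨ Nonempty (G ≃* ↥(alternatingGroup (Fin 7))) ∨
      (∃ (F : Type) (_ : Field F) (_ : Fintype F), Fintype.card F = 4 ∧
        Nonempty (G ≃* Matrix.ProjectiveSpecialLinearGroup (Fin 3) F)) := by
  by_cases hgood : ∀ t : G, orderOf t = 2 → HasNormalPComplement 2 (centralizer ({t} : Set G))
  · exact Cfsg.Agent.S3214.result hna hgood
  push Not at hgood
  obtain ⟨t, ht, hbad⟩ := hgood
  obtain ⟨S, hS⟩ := abelian_sylow hI ht hbad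
  have hC : ∀ v : G, orderOf v = 2 → Group.IsSolvable (centralizer ({v} : Set G)) := fun v hv => by
    by_cases h : HasNormalPComplement 2 (centralizer ({v} : Set G))
    · exact isSolvable_of_hasNormalPComplement h
    · exact isSolvable_cent hI hv h
  have hns : ¬ Group.IsSolvable G := fun hs => hna ⟨⟨IsSimpleGroup.comm_iff_isSolvable.mpr hs⟩⟩
  rcases Cfsg.Agent.S3188.result S hS hC with h | ⟨F, _, _, hq, N, hN, ⟨e⟩, hcent⟩
  · exact absurd h hns
  have hbot : oddCore G = ⊥ := by
    refine (inferInstance : (oddCore G).Normal).eq_bot_or_eq_top.resolve_right fun e' => hns ?_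
    have h := CfsgLib.odd_card_oddCore (G := G)
    rw [show oddCore G = ⊤ from e', card_top] at h
    exact Cfsg.Agent.S0205.result h
  let π := QuotientGroup.mk' (oddCore G)
  have hπ : Function.Surjective π := QuotientGroup.mk'_surjective _
  have hinj : Function.Injective π := (QuotientGroup.mk' (oddCore G)).ker_eq_bot_iff.mp (by rw [QuotientGroup.ker_mk', hbot])
  have htop : N = ⊤ := by
    rcases (hN.comap π).eq_bot_or_eq_top with h | h
    · exfalso
      have h1 : N = ⊥ := by rw [← map_comap_eq_self_of_surjective hπ N, h, Subgroup.map_bot]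
      rw [h1, coe_bot] at hcent
      have h2 : π t ∈ centralizer ({1} : Set (G ⧸ oddCore G)) := mem_centralizer_singleton_iff.mpr (by simp)
      rw [hcent, mem_bot, ← map_one π] at h2
      rw [hinj h2, orderOf_one] at ht
      omega
    · rw [← map_comap_eq_self_of_surjective hπ N, h, map_top_of_surjective π hπ]
  subst htop
  refine Or.inl ⟨F, inferInstance, inferInstance, ?_, ⟨((MulEquiv.ofBijective π ⟨hinj, hπ⟩).trans topEquiv.symm).trans e⟩⟩
  rcases hq with ⟨-, h5⟩ | ⟨n, hn, hc⟩
  · omega
  · rw [hc]
    exact lt_of_lt_of_le (by norm_num : 3 < 2 ^ 2) (Nat.pow_le_pow_right two_pos hn)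

end CfsgLib.ConjRankFour
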