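import Cfsg.Agent.Lib.ConjRankFour.Invol
import Cfsg.Agent.Lib.TransferApps
import Cfsg.Agent.S3188
import Cfsg.Agent.S3214

set_option autoImplicit false
set_option linter.style.haveILetI false

/-!
The Sylow 2-subgroups of the centralizer of a bad involution are Sylow subgroups of the group, and the
resulting list of simple groups.
-/

namespace CfsgLib.ConjRankFour

open Cfsg Subgroup CfsgLib.ConjRankThree

universe u

variable {G : Type u} [Group G] [Finite G] {m : ℕ} (hI : Inv G m)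
include hI

theorem sq_of_bad {t : G} (ht : orderOf t = 2) (hbad : ¬ HasNormalPComplement 2 (centralizer ({t} : Set G)))
    {X : Subgroup G} (hXt : X ≤ centralizer ({t} : Set G)) (hX : IsPGroup 2 X) {x : G} (hx : x ∈ X) :
    x * x = 1 := by
  haveI := Fact.mk Nat.prime_two
  obtain ⟨S, hS⟩ := (hX.of_equiv (subgroupOfEquivOfLe hXt).symm).exists_le_sylow
  exact congrArg Subtype.val ((badData hI ht hbad).sylow_sq (hS (show (⟨x, hXt hx⟩ : centralizer ({t} : Set G)) ∈
    X.subgroupOf _ from hx)))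

omit hI in
theorem commute_of_sq {X : Subgroup G} (h : ∀ x ∈ X, x * x = 1) {a b : G} (ha : a ∈ X) (hb : b ∈ X) :
    a * b = b * a := by
  calc a * b = (a * b)⁻¹ := (inv_eq_of_mul_eq_one_right (h _ (mul_mem ha hb))).symm
    _ = b⁻¹ * a⁻¹ := mul_inv_rev a b
    _ = b * a := by rw [inv_eq_of_mul_eq_one_right (h a ha), inv_eq_of_mul_eq_one_right (h b hb)]

omit hI in
/-- An element of odd order normalizing but not centralizing an abelian Sylow 2-subgroup. -/
theorem exists_odd_normalizer {M : Type u} [Group M] [Finite M] (hno : ¬ HasNormalPComplement 2 M)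
    (S : Sylow 2 M) (hS : ∀ a ∈ (S : Subgroup M), ∀ b ∈ (S : Subgroup M), a * b = b * a) :
    ∃ a ∈ normalizer ((S : Subgroup M) : Set M), Odd (orderOf a) ∧ a ∉ centralizer ((S : Subgroup M) : Set M) := by
  haveI := Fact.mk Nat.prime_two
  by_contra hall
  push Not at hall
  refine hno ⟨S, (MonoidHom.transferSylow S ?_).ker, inferInstance, MonoidHom.ker_transferSylow_isComplement' S ?_⟩
  all_goals
    intro g hg
    obtain ⟨i, l, hl, ho⟩ := Nat.exists_eq_pow_mul_and_not_dvd (orderOf_pos g).ne' 2 (by norm_num)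
    have hodd : Odd (orderOf (g ^ 2 ^ i)) := by
      rw [orderOf_pow_of_dvd (by positivity) (ho ▸ dvd_mul_right _ _), ho, Nat.mul_div_cancel_left _ (by positivity)]
      exact Nat.not_even_iff_odd.mp fun he => hl he.two_dvd
    have h1 : g ^ 2 ^ i ∈ centralizer ((S : Subgroup M) : Set M) := hall _ (pow_mem hg _) hodd
    have hl0 : l ≠ 0 := fun e => hl (e ▸ dvd_zero 2)
    have hol : orderOf (g ^ l) = 2 ^ i := by
      rw [orderOf_pow_of_dvd hl0 (ho ▸ dvd_mul_left _ _), ho,
        Nat.mul_div_cancel _ (Nat.pos_of_ne_zero hl0)]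
    have hP : IsPGroup 2 (zpowers (g ^ l)) := IsPGroup.of_card (n := i) (by rw [Nat.card_zpowers, hol])
    have hsup : IsPGroup 2 ((S : Subgroup M) ⊔ zpowers (g ^ l) : Subgroup M) :=
      S.2.to_sup_of_normal_left' hP (zpowers_le.mpr (pow_mem hg _))
    have h2 : g ^ l ∈ centralizer ((S : Subgroup M) : Set M) := fun b hb =>
      hS b hb _ (S.is_maximal' hsup le_sup_left ▸ mem_sup_right (mem_zpowers (g ^ l)))
    have hco : (2 ^ i).Coprime l := (Nat.prime_two.coprime_iff_not_dvd.mpr hl).pow_left i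
    have e : g ^ ((2 ^ i : ℕ) * (2 ^ i).gcdA l + (l : ℕ) * (2 ^ i).gcdB l : ℤ) = g := by
      rw [← Nat.gcd_eq_gcd_ab, Nat.Coprime.gcd_eq_one hco, Nat.cast_one, zpow_one]
    rw [← e, zpow_add, zpow_mul, zpow_mul, zpow_natCast, zpow_natCast]
    exact mul_mem (zpow_mem h1 _) (zpow_mem h2 _)

omit hI in
theorem two_mul_card_le {A B : Subgroup G} (hle : A ≤ B) (hne : A ≠ B) : 2 * Nat.card A ≤ Nat.card B := by
  obtain ⟨c, hc⟩ := card_dvd_of_le hle
  have hpos : 0 < Nat.card B := Nat.card_pos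
  have : c ≠ 0 := by rintro rfl; omega
  have : c ≠ 1 := by rintro rfl; exact hne (eq_of_le_of_card_ge hle (by omega))
  calc 2 * Nat.card A ≤ c * Nat.card A := Nat.mul_le_mul_right _ (by omega)
    _ = Nat.card B := by rw [hc, mul_comm]

/-- The Sylow 2-subgroups of the group are abelian. -/
theorem abelian_sylow {t : G} (ht : orderOf t = 2) (hbad : ¬ HasNormalPComplement 2 (centralizer ({t} : Set G))) :
    ∃ S : Sylow 2 G, IsMulCommutative (S : Subgroup G) := by
  haveI := Fact.mk Nat.prime_two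
  set M := centralizer ({t} : Set G) with hM
  have hdata := badData hI ht hbad
  obtain ⟨S⟩ : Nonempty (Sylow 2 M) := inferInstance
  set E := (S : Subgroup M).map M.subtype with hE
  have hEM : E ≤ M := map_subtype_le _
  have hEg : IsPGroup 2 E := S.2.map _
  have hEsq : ∀ e ∈ E, e * e = 1 := fun e he => sq_of_bad hI ht hbad hEM hEg he
  have hEcomm : ∀ a ∈ E, ∀ b ∈ E, a * b = b * a := fun a ha b hb => commute_of_sq hEsq ha hb
  obtain ⟨S0, hS0⟩ := hEg.exists_le_sylow
  by_cases heq : E = S0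
  · exact ⟨S0, ⟨⟨fun a b => Subtype.ext (hEcomm a (heq.ge a.2) b (heq.ge b.2))⟩⟩⟩
  exfalso
  have hmax : ∀ X : Subgroup G, IsPGroup 2 X → E ≤ X → X ≤ M → X = E := by
    intro X hX hEX hXM
    have h1 := S.is_maximal' (hX.of_equiv (subgroupOfEquivOfLe hXM).symm) (fun y hy => hEX ⟨y, hy, rfl⟩)
    rw [hE, ← h1, map_subgroupOf_eq_of_le hXM]
  have htE : t ∈ E := by
    have htp : IsPGroup 2 (zpowers t) := IsPGroup.of_card (n := 1) (by rw [Nat.card_zpowers, ht, pow_one])
    have hn : zpowers t ≤ normalizer (E : Set G) := zpowers_le.mpr (centralizer_le_normalizer (E : Set G) fun e he => mem_cent.mp (hEM he))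
    exact hmax _ (hEg.to_sup_of_normal_left' htp hn) le_sup_left (sup_le hEM (zpowers_le.mpr (self_mem t))) ▸
      mem_sup_right (mem_zpowers t)
  -- an element normalizing `E`
  obtain ⟨x, hx0, hxN, hxE, hx2⟩ : ∃ x ∈ (S0 : Subgroup G), (∀ e ∈ E, x * e * x⁻¹ ∈ E) ∧ x ∉ E ∧ x * x ∈ E := by
    haveI := S0.2.isNilpotent
    have hlt : E.subgroupOf (S0 : Subgroup G) < ⊤ := lt_top_iff_ne_top.mpr fun e =>
      heq (le_antisymm hS0 (subgroupOf_eq_top.mp e))
    obtain ⟨⟨y, hyS⟩, hyN, hyE⟩ := SetLike.exists_of_lt (Group.normalizerCondition_of_isNilpotent _ hlt)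
    have hyn : ∀ k : ℕ, ∀ e ∈ E, y ^ k * e * (y ^ k)⁻¹ ∈ E := fun k e he => by
      have h1 := (mem_normalizer_iff.mp (pow_mem hyN k) ⟨e, hS0 he⟩).mp he
      rw [mem_subgroupOf] at h1
      simpa using h1
    obtain ⟨j, hj⟩ := S0.2 ⟨y, hyS⟩
    have hj' : y ^ 2 ^ j = 1 := congrArg Subtype.val hj
    clear hj
    induction j generalizing y with
    | zero => exact absurd (show y ∈ E by rw [pow_zero, pow_one] at hj'; exact hj' ▸ one_mem E) hyE
    | succ j ih =>
      by_cases h2 : y * y ∈ E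
      · exact ⟨y, hyS, fun e he => by simpa using hyn 1 e he, hyE, h2⟩
      · refine ih (y * y) (mul_mem hyS hyS) (mul_mem hyN hyN) h2 (fun k e he => ?_) ?_
        · rw [← sq, ← pow_mul]; exact hyn _ e he
        · rw [← sq, ← pow_mul, ← pow_succ']; exact hj'
  have hzp : ∀ y ∈ (S0 : Subgroup G), IsPGroup 2 (zpowers y) := fun y hy => S0.2.to_le (zpowers_le.mpr hy)
  have hxt : x ∉ M := by
    intro hxM
    have h1 := hmax (E ⊔ zpowers x) (S0.2.to_le (sup_le hS0 (zpowers_le.mpr hx0))) le_sup_left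
      (sup_le hEM (zpowers_le.mpr hxM))
    exact hxE (h1 ▸ mem_sup_right (mem_zpowers x))
  obtain ⟨e, heE, hes⟩ : ∃ e ∈ E, x * e * (x * e) ≠ 1 := by
    by_contra hall
    push Not at hall
    have h1 := hall 1 (one_mem E)
    rw [mul_one] at h1
    have hxi : x⁻¹ = x := inv_eq_of_mul_eq_one_right h1
    refine hxt (mem_cent.mpr ?_)
    have h2 := hall t htE
    have htt : t⁻¹ = t := inv_eq_of_mul_eq_one_right (hEsq t htE)
    have := eq_inv_of_mul_eq_one_left h2
    rw [mul_inv_rev, htt, hxi] at this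
    exact this
  set s := x * e with hs
  set z := s * s with hz
  have hzE : z ∈ E := by
    rw [hz, hs, show x * e * (x * e) = x * e * x⁻¹ * (x * x) * e by group]
    exact mul_mem (mul_mem (hxN e heE) hx2) heE
  have hz2 : orderOf z = 2 := orderOf_eq_prime (by rw [sq]; exact hEsq z hzE) hes
  have hst : s ∉ M := fun h => hxt (by simpa [hs] using mul_mem h (inv_mem (hEM heE)))
  have hs1 : s ≠ 1 := fun h => hst (h ▸ one_mem M)
  have hsz : centralizer ({s} : Set G) ≤ centralizer {z} := by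
    rw [hz, ← sq]; exact cent_le_pow s 2
  have hsm : cc s = m := hI z hz2 s hs1 (cc_le_of_le hsz) fun e1 => hst <| by
    have h1 := eq_of_le_of_card_ge hsz e1.ge
    have h2 : t ∈ centralizer ({s} : Set G) := h1 ▸ mem_cent.mpr (hEcomm t htE z hzE)
    exact mem_cent_symm h2
  -- the fixed points of `x`
  set Ex := E ⊓ centralizer ({x} : Set G) with hEx
  have hA : 2 * Nat.card Ex ≤ 2 ^ m.factorization 2 := by
    set A := Ex ⊔ zpowers s
    have hsS0 : s ∈ (S0 : Subgroup G) := mul_mem hx0 (hS0 heE)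
    have hAs : A ≤ centralizer ({s} : Set G) := sup_le (fun a ha => mem_cent.mpr (by
      have ha1 : a ∈ E ∧ a * x = x * a := ⟨ha.1, mem_cent.mp ha.2⟩
      rw [hs, ← mul_assoc, ha1.2, mul_assoc, hEcomm a ha1.1 e heE, mul_assoc])) (zpowers_le.mpr (self_mem s))
    have hAp : IsPGroup 2 A := S0.2.to_le (sup_le (inf_le_left.trans hS0) (zpowers_le.mpr hsS0))
    refine (two_mul_card_le (A := Ex) (B := A) le_sup_left fun e1 => hst (hEM ?_)).trans ?_
    · have : s ∈ Ex := e1 ▸ mem_sup_right (mem_zpowers s)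
      exact this.1
    obtain ⟨j, hj⟩ := hAp.exists_card_eq
    rw [hj]
    refine Nat.pow_le_pow_right two_pos ((Nat.prime_two.pow_dvd_iff_le_factorization hdata.mpos).mp ?_)
    rw [← hj, ← hsm]
    exact card_dvd_of_le hAs
  -- an element of odd order in the centralizer of `t`
  have hSsq : ∀ y ∈ (S : Subgroup M), y * y = 1 := fun y hy => hdata.sylow_sq hy
  obtain ⟨a, haN, haodd, hac⟩ := exists_odd_normalizer hbad S fun u hu v hv => commute_of_sq hSsq hu hv
  have hanc : a ∉ center M := fun h => hac fun b _ => mem_center_iff.mp h b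
  have haCa : cc a = m := hdata.odd_card a haodd hanc
  have haE : ∀ b ∈ E, (a : G) * b * (a : G)⁻¹ ∈ E := by
    rintro _ ⟨b, hb, rfl⟩
    exact ⟨a * b * a⁻¹, (mem_normalizer_iff.mp haN b).mp hb, rfl⟩
  set Ea := E ⊓ centralizer ({(a : G)} : Set G) with hEa
  have hB : 2 ^ m.factorization 2 ≤ Nat.card Ea := by
    set Sa := (S : Subgroup M) ⊓ centralizer ({a} : Set M) with hSa
    have hcardSa : Nat.card Sa = Nat.card Ea := by
      rw [Nat.card_congr (Sa.equivMapOfInjective _ M.subtype_injective).toEquiv]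
      refine congrArg (fun H : Subgroup G => Nat.card H) ?_
      ext b
      constructor
      · rintro ⟨b, ⟨hb, hba⟩, rfl⟩
        exact ⟨⟨b, hb, rfl⟩, mem_cent.mpr (congrArg Subtype.val (mem_cent.mp hba))⟩
      · rintro ⟨⟨b, hb, rfl⟩, hba⟩
        exact ⟨b, ⟨hb, mem_cent.mpr (Subtype.ext (mem_cent.mp hba))⟩, rfl⟩
    rw [← hcardSa]
    haveI := hdata.solv
    set O := pPrimeCore 2 M
    let π := QuotientGroup.mk' O
    have hπs : Function.Surjective π := QuotientGroup.mk'_surjective O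
    set F := pCore 2 (M ⧸ O)
    let Sq : Sylow 2 (M ⧸ O) := S.mapSurjective hπs
    have hSF : (Sq : Subgroup (M ⧸ O)) = F := by
      refine le_antisymm ?_ (CfsgLib.pCore_le_sylow Sq)
      intro y hy
      refine CfsgLib.centralizer_pCore_le Nat.prime_two (CfsgLib.pPrimeCore_quotient_eq_bot 2) fun f hf => ?_
      have hf' : f ∈ (Sq : Subgroup (M ⧸ O)) := CfsgLib.pCore_le_sylow Sq hf
      rw [Sylow.coe_mapSurjective] at hy hf'
      obtain ⟨u, hu, rfl⟩ := hy
      obtain ⟨v, hv, rfl⟩ := hf'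
      rw [← map_mul, ← map_mul, commute_of_sq hSsq hv hu]
    have hinj : ∀ P : Subgroup M, IsPGroup 2 P → ∀ b ∈ P, π b = 1 → b = 1 := by
      intro P hP b hb hπb
      have hbO : b ∈ O := (QuotientGroup.eq_one_iff b).mp hπb
      obtain ⟨j, hj⟩ := exists_orderOf_eq_pow hP hb
      have h1 : 2 ^ j ∣ Nat.card O := hj ▸ Subgroup.orderOf_dvd_natCard O hbO
      have h2 := Nat.eq_one_of_dvd_coprimes ((CfsgLib.card_pPrimeCore_coprime 2).pow_right j) h1 dvd_rfl
      rw [h2, orderOf_eq_one_iff] at hj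
      exact hj
    obtain ⟨T, hTa, hT, hTc⟩ := exists_qgroup_le 2 (centralizer ({a} : Set M))
    rw [show (Nat.card (centralizer ({a} : Set M))).factorization 2 = m.factorization 2 from
      congrArg (fun n => n.factorization 2) haCa] at hTc
    have hTle : T.map π ≤ Sa.map π := by
      rintro _ ⟨τ, hτ, rfl⟩
      obtain ⟨Q, hQ⟩ := (hT.map π).exists_le_sylow
      haveI : (Sq : Subgroup (M ⧸ O)).Normal := hSF ▸ inferInstance
      haveI := Sylow.unique_of_normal Sq inferInstance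
      obtain ⟨b, hb, hbτ⟩ : π τ ∈ (S : Subgroup M).map π := by
        rw [← Sylow.coe_mapSurjective (hf := hπs)]
        have hQS : Q = Sq := Subsingleton.elim Q Sq
        subst hQS
        exact hQ ⟨τ, hτ, rfl⟩
      refine ⟨b, ⟨hb, mem_cent_symm (mem_cent.mpr ?_)⟩, hbτ⟩
      refine mul_inv_eq_iff_eq_mul.mp (mul_inv_eq_one.mp (hinj _ S.2 (a * b * a⁻¹ * b⁻¹) ?_ ?_))
      · exact mul_mem ((mem_normalizer_iff.mp haN b).mp hb) (inv_mem hb)
      · simp only [map_mul, map_inv]
        rw [hbτ, ← map_mul, mem_cent.mp (mem_cent_symm (hTa hτ)), map_mul]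
        group
    have hinjT : Function.Injective (π.comp T.subtype) :=
      (injective_iff_map_eq_one _).mpr fun b hb => Subtype.ext (hinj T hT b b.2 hb)
    calc 2 ^ m.factorization 2 = Nat.card T := hTc.symm
      _ = Nat.card (π.comp T.subtype).range := Nat.card_congr (MonoidHom.ofInjective hinjT).toEquiv
      _ = Nat.card (T.map π) := by rw [MonoidHom.range_comp, range_subtype]
      _ ≤ Nat.card (Sa.map π) := card_le_of_le hTle
      _ ≤ Nat.card Sa := Nat.le_of_dvd Nat.card_pos (Sa.card_map_dvd π)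
  -- the two fixed point subgroups meet trivially
  have haG : Odd (orderOf (a : G)) := by rwa [Subgroup.orderOf_coe]
  have hdisj : ∀ b ∈ Ea, b ∈ Ex → b = 1 := by
    intro b hba hbx
    by_contra hb1
    have hb2 : orderOf b = 2 := orderOf_eq_prime (by rw [sq]; exact hEsq b hba.1) hb1
    set X := E ⊔ zpowers x
    have hXb : X ≤ centralizer ({b} : Set G) := sup_le (fun u hu => mem_cent.mpr (hEcomm u hu b hba.1))
      (zpowers_le.mpr (mem_cent_symm hbx.2))
    have hXp : IsPGroup 2 X := S0.2.to_le (sup_le hS0 (zpowers_le.mpr hx0))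
    by_cases hb : HasNormalPComplement 2 (centralizer ({b} : Set G))
    · obtain ⟨N, hN, hNodd, -, hNmem⟩ := exists_odd_complement hb
      refine hac fun u hu => ?_
      have hab : (a : G) ∈ centralizer ({b} : Set G) := mem_cent_symm hba.2
      have haN' : (⟨a, hab⟩ : centralizer ({b} : Set G)) ∈ N := hNmem _ (by rwa [Subgroup.orderOf_mk])
      have huE : (u : G) ∈ E := ⟨u, hu, rfl⟩
      have hub : (u : G) ∈ centralizer ({b} : Set G) := hXb (mem_sup_left huE)
      have h1 : (a : G) * u * (a : G)⁻¹ * (u : G)⁻¹ ∈ E := mul_mem (haE _ huE) (inv_mem huE)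
      have h2 : (⟨a, hab⟩ : centralizer ({b} : Set G)) * ⟨u, hub⟩ * ⟨a, hab⟩⁻¹ * ⟨u, hub⟩⁻¹ ∈ N := by
        rw [show (⟨a, hab⟩ : centralizer ({b} : Set G)) * ⟨u, hub⟩ * ⟨a, hab⟩⁻¹ * ⟨u, hub⟩⁻¹ =
          ⟨a, hab⟩ * (⟨u, hub⟩ * ⟨a, hab⟩⁻¹ * ⟨u, hub⟩⁻¹) by group]
        exact mul_mem haN' (hN.conj_mem _ (inv_mem haN') _)
      have h4 := Subgroup.orderOf_dvd_natCard N h2
      rw [← Subgroup.orderOf_coe] at h4
      push_cast at h4
      obtain ⟨j, hj⟩ := exists_orderOf_eq_pow hEg h1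
      rw [hj] at h4
      have h5 := Nat.eq_one_of_dvd_coprimes ((Nat.coprime_two_left.mpr hNodd).pow_left j) dvd_rfl h4
      rw [h5, orderOf_eq_one_iff, mul_inv_eq_one, mul_inv_eq_iff_eq_mul] at hj
      exact Subtype.ext hj.symm
    · have hXsq : ∀ u ∈ X, u * u = 1 := fun u hu => sq_of_bad hI hb2 hb hXb hXp hu
      exact hxt (mem_cent.mpr (commute_of_sq hXsq (mem_sup_right (mem_zpowers x)) (mem_sup_left htE)))
  have hC : Nat.card Ea * Nat.card Ex ≤ Nat.card E := by
    rw [← Nat.card_prod]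
    refine Nat.card_le_card_of_injective (fun p : Ea × Ex => (⟨(p.1 : G) * p.2, mul_mem p.1.2.1 p.2.2.1⟩ : E)) ?_
    rintro ⟨u, v⟩ ⟨u', v'⟩ h
    have h' : (u : G) * v = u' * v' := congrArg Subtype.val h
    have h1 : (u' : G)⁻¹ * u = (v' : G) * (v : G)⁻¹ := by
      calc (u' : G)⁻¹ * u = (u' : G)⁻¹ * ((u : G) * v) * (v : G)⁻¹ := by group
        _ = _ := by rw [h']; group
    have h2 := hdisj _ (mul_mem (inv_mem u'.2) u.2) (h1 ▸ mul_mem v'.2 (inv_mem v.2))
    have hu : u = u' := Subtype.ext (inv_mul_eq_one.mp h2).symm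
    subst hu
    exact Prod.ext rfl (Subtype.ext (mul_left_cancel h'))
  have hD : Nat.card E ≤ Nat.card Ex * Nat.card Ex := by
    let f : E →* G :=
      { toFun := fun u => x * (u : G) * x⁻¹ * (u : G)⁻¹
        map_one' := by simp
        map_mul' := fun u v => by
          have e := hEcomm _ (mul_mem (hxN _ v.2) (inv_mem v.2)) _ (inv_mem u.2)
          push_cast
          calc x * ((u : G) * v) * x⁻¹ * ((u : G) * v)⁻¹
              = x * (u : G) * x⁻¹ * (x * (v : G) * x⁻¹ * (v : G)⁻¹ * (u : G)⁻¹) := by group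
            _ = x * (u : G) * x⁻¹ * ((u : G)⁻¹ * (x * (v : G) * x⁻¹ * (v : G)⁻¹)) := by rw [e]
            _ = _ := by group }
    have hker : f.ker.map E.subtype ≤ Ex := by
      rintro _ ⟨u, hu, rfl⟩
      refine ⟨u.2, mem_cent_symm (mem_cent.mpr ?_)⟩
      exact mul_inv_eq_iff_eq_mul.mp (mul_inv_eq_one.mp hu)
    have hrange : f.range ≤ Ex := by
      rintro _ ⟨u, rfl⟩
      have h1 : x * (u : G) * x⁻¹ ∈ E := hxN _ u.2
      refine ⟨E.mul_mem h1 (E.inv_mem u.2), mem_cent_symm (mem_cent.mpr ?_)⟩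
      show x * (x * (u : G) * x⁻¹ * (u : G)⁻¹) = x * (u : G) * x⁻¹ * (u : G)⁻¹ * x
      have hw : x * (u : G) * x⁻¹ * (u : G)⁻¹ = (u : G) * (x * (u : G) * x⁻¹)⁻¹ := by
        rw [inv_eq_of_mul_eq_one_right (hEsq _ h1), inv_eq_of_mul_eq_one_right (hEsq _ u.2), hEcomm _ h1 _ u.2]
      have hc2 : x * x * (u : G) = u * (x * x) := hEcomm _ hx2 _ u.2
      calc x * (x * (u : G) * x⁻¹ * (u : G)⁻¹)
          = x * x * (u : G) * (x * x)⁻¹ * (x * (u : G) * x⁻¹)⁻¹ * x := by group
        _ = (u : G) * (x * (u : G) * x⁻¹)⁻¹ * x := by rw [hc2]; group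
        _ = _ := by rw [← hw]
    calc Nat.card E = Nat.card f.ker * Nat.card f.range := by
          rw [← f.ker.card_mul_index, Subgroup.index_ker]
      _ ≤ Nat.card Ex * Nat.card Ex := by
          refine Nat.mul_le_mul ?_ (card_le_of_le hrange)
          rw [Nat.card_congr (f.ker.equivMapOfInjective _ E.subtype_injective).toEquiv]
          exact card_le_of_le hker
  have hpos : 0 < Nat.card Ex := Nat.card_pos
  nlinarith [Nat.mul_le_mul_right (Nat.card Ex) (hA.trans hB)]

end CfsgLib.ConjRankFour
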