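import Cfsg.Agent.Lib.PSolvable
import Cfsg.Agent.Lib.PLocal.Constrained

set_option autoImplicit false

/-!
In a solvable group an element of odd order centralizing the centralizer of a 2-element lies in the odd core.
-/

namespace CfsgLib.ConjRankFour

open Cfsg Subgroup

universe u

theorem mem_pPrimeCore_two_of_commute {M : Type u} [Group M] [Finite M] [Group.IsSolvable M] {u r : M}
    (hu : ∃ k, orderOf u = 2 ^ k) (hr : Odd (orderOf r))
    (h : ∀ c : M, c * u = u * c → c * r = r * c) : r ∈ pPrimeCore 2 M := by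
  haveI := Fact.mk Nat.prime_two
  obtain ⟨k, hk⟩ := hu
  set O := pPrimeCore 2 M with hO
  let π := QuotientGroup.mk' O
  set F := pCore 2 (M ⧸ O)
  have hur : u * r = r * u := h u rfl
  have hPg : IsPGroup 2 (zpowers u) := IsPGroup.of_card (n := k) (by rw [Nat.card_zpowers, hk])
  have hQ : (Nat.card (zpowers (π r))).Coprime 2 := by
    rw [Nat.card_zpowers]
    exact Nat.Coprime.coprime_dvd_left (orderOf_map_dvd π r) (Nat.coprime_two_right.mpr hr)
  have hP : IsPGroup 2 (zpowers (π u)) := by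
    rw [← MonoidHom.map_zpowers]
    exact hPg.map _
  have hPQ : zpowers (π u) ≤ centralizer (zpowers (π r) : Set (M ⧸ O)) := by
    rw [zpowers_le]
    intro z hz
    obtain ⟨i, rfl⟩ := mem_zpowers_iff.mp hz
    have e : Commute (π u) (π r) := by rw [Commute, SemiconjBy, ← map_mul, ← map_mul, hur]
    exact (e.zpow_right i).symm.eq
  have hN : ∀ H : Subgroup (M ⧸ O), H ≤ normalizer (F : Set (M ⧸ O)) := fun H => by
    rw [normalizer_eq_top]
    exact le_top
  have hle := CfsgLib.thompson_PxQ hP hQ hPQ F (CfsgLib.isPGroup_pCore 2) (hN _) (hN _) fun f ⟨_, hf⟩ => by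
    have hf' : f ∈ centralizer (((zpowers u).map π : Subgroup (M ⧸ O)) : Set (M ⧸ O)) := by
      rwa [MonoidHom.map_zpowers]
    rw [← CfsgLib.PLocal.map_centralizer_eq O (CfsgLib.card_pPrimeCore_coprime 2) hPg] at hf'
    obtain ⟨c, hc, rfl⟩ := hf'
    intro z hz
    obtain ⟨i, rfl⟩ := mem_zpowers_iff.mp hz
    have e : Commute (π c) (π r) := by
      rw [Commute, SemiconjBy, ← map_mul, ← map_mul, h c (hc u (mem_zpowers u)).symm]
    exact (e.zpow_right i).symm.eq
  have hrF : π r ∈ F := CfsgLib.centralizer_pCore_le Nat.prime_two (CfsgLib.pPrimeCore_quotient_eq_bot 2)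
    (hle (mem_zpowers _))
  obtain ⟨j, hj⟩ := IsPGroup.iff_orderOf.mp (CfsgLib.isPGroup_pCore (G := M ⧸ O) 2) ⟨_, hrF⟩
  rw [Subgroup.orderOf_mk] at hj
  rw [Nat.card_zpowers, hj] at hQ
  have h1 : orderOf (π r) = 1 := by
    rw [hj]
    exact Nat.eq_one_of_dvd_coprimes (hQ.pow_right j) dvd_rfl dvd_rfl
  exact (QuotientGroup.eq_one_iff r).mp (orderOf_eq_one_iff.mp h1)

end CfsgLib.ConjRankFour
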