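import Cfsg.Agent.Lib.ConjRankFour.Basic
import Cfsg.Agent.Lib.ConjRankFour.Bad
import Cfsg.Agent.Lib.ConjRankFour.Fixed
import Cfsg.Agent.Lib.ConjRankFour.Invol
import Cfsg.Agent.S0215

set_option autoImplicit false
set_option linter.style.haveILetI false

/-!
With four orders of centralizers the hypothesis `Inv` holds.
-/

namespace CfsgLib.ConjRankFour

open Cfsg Subgroup CfsgLib.ConjRankThree

universe u

variable {G : Type u} [Group G] [Finite G] [IsSimpleGroup G]

theorem two_heads (hna : ¬ IsMulCommutative G) {v : ℕ} (hv : Head G v) : ∃ w, Head G w ∧ w ≠ v := by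
  haveI := mono_of_simple hna
  obtain ⟨x, hx, rfl⟩ := hv.1
  have hlt := cc_lt hx
  obtain ⟨r, hr, hnd⟩ : ∃ r : ℕ, r.Prime ∧ ¬ r ^ (Nat.card G).factorization r ∣ cc x := by
    by_contra hall
    push Not at hall
    have hd : Nat.card G ∣ cc x := by
      rw [← Nat.factorization_le_iff_dvd Nat.card_pos.ne' (cc_pos x).ne']
      intro r
      by_cases hr : r.Prime
      · exact (hr.pow_dvd_iff_le_factorization (cc_pos x).ne').mp (hall r hr)
      · rw [Nat.factorization_eq_zero_of_not_prime _ hr]; exact Nat.zero_le _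
    exact absurd (Nat.le_of_dvd (cc_pos x) hd) (by omega)
  haveI := Fact.mk hr
  have hrG : r ∣ Nat.card G := by
    by_contra hc
    rw [Nat.factorization_eq_zero_of_not_dvd hc, pow_zero] at hnd
    exact hnd (one_dvd _)
  obtain ⟨R⟩ : Nonempty (Sylow r G) := inferInstance
  obtain ⟨z, hz, -, -, hzR⟩ := exists_central_sylow hrG R
  obtain ⟨w, hw, hd⟩ := exists_head ⟨z, hz, rfl⟩
  exact ⟨w, hw, fun e => hnd (e ▸ (sylow_dvd_of_le R hzR).trans hd)⟩

/-- Two heads with every value below one of them, with coprime indices. -/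
structure TwoHeaded (x1 x2 : G) : Prop where
  ne1 : x1 ≠ 1
  ne2 : x2 ≠ 1
  not_dvd : ¬ cc x1 ∣ cc x2
  not_dvd' : ¬ cc x2 ∣ cc x1
  dvd_or : ∀ x : G, x ≠ 1 → cc x ∣ cc x1 ∨ cc x ∣ cc x2
  primary1 : ∃ p k : ℕ, p.Prime ∧ orderOf x1 = p ^ k
  primary2 : ∃ q k : ℕ, q.Prime ∧ orderOf x2 = q ^ k

namespace TwoHeaded

variable {x1 x2 : G} (h : TwoHeaded x1 x2)
include h

theorem symm : TwoHeaded x2 x1 :=
  ⟨h.ne2, h.ne1, h.not_dvd', h.not_dvd, fun x hx => (h.dvd_or x hx).symm, h.primary2, h.primary1⟩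

theorem coprime : (centralizer ({x1} : Set G)).index.Coprime (centralizer ({x2} : Set G)).index := by
  refine index_coprime_iff.mpr fun r hr => ?_
  haveI := Fact.mk hr
  by_cases hrG : r ∣ Nat.card G
  · obtain ⟨R⟩ : Nonempty (Sylow r G) := inferInstance
    obtain ⟨z, hz, -, -, hzR⟩ := exists_central_sylow hrG R
    exact (h.dvd_or z hz).imp (sylow_dvd_of_le R hzR).trans (sylow_dvd_of_le R hzR).trans
  · exact Or.inl (by rw [Nat.factorization_eq_zero_of_not_dvd hrG, pow_zero]; exact one_dvd _)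

omit h in
theorem not_commute_of_eq (hna : ¬ IsMulCommutative G) (h : TwoHeaded x1 x2) {y w : G} (hy : y ≠ 1) (hw : w ≠ 1)
    (ey : cc y = cc x1) (ew : cc w = cc x2) : y * w ≠ w * y := by
  haveI := mono_of_simple hna
  refine not_commute_of_coprime_index hy hw (index_coprime_iff.mpr fun r hr => ?_)
  rw [ey, ew]
  exact index_coprime_iff.mp h.coprime r hr

theorem card_inf : Nat.card (centralizer {x1} ⊓ centralizer ({x2} : Set G) : Subgroup G) *
    (centralizer ({x2} : Set G)).index = cc x1 := by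
  set A := centralizer ({x1} : Set G)
  set B := centralizer ({x2} : Set G)
  have hmul : A.index * B.index ∣ (A ⊓ B).index :=
    h.coprime.mul_dvd_of_dvd_of_dvd (index_dvd_of_le inf_le_left) (index_dvd_of_le inf_le_right)
  have hidx : (A ⊓ B).index = A.index * B.index :=
    le_antisymm Subgroup.index_inf_le (Nat.le_of_dvd (Nat.pos_of_ne_zero index_ne_zero_of_finite) hmul)
  refine Nat.eq_of_mul_eq_mul_right (Nat.pos_of_ne_zero (index_ne_zero_of_finite (H := A))) ?_
  show _ = Nat.card A * A.index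
  rw [A.card_mul_index, mul_assoc, mul_comm B.index, ← hidx, Subgroup.card_mul_index]

theorem not_full (hna : ¬ IsMulCommutative G) {p k : ℕ} (hp : p.Prime) (hk : orderOf x1 = p ^ k) :
    ¬ p ^ (Nat.card G).factorization p ∣ cc x2 := by
  intro hd
  haveI := Fact.mk hp
  obtain ⟨R, hR⟩ := exists_sylow_of_mem ⟨k, hk⟩
  obtain ⟨g, hg⟩ := exists_sylow_le R hd
  exact not_commute_of_eq hna h h.ne1 (fun e => h.ne2 (by simpa using e)) rfl (cc_conj g x2) (mem_cent.mp (hg hR))

theorem not_dvd_of_central (hna : ¬ IsMulCommutative G) {q : ℕ} [Fact q.Prime] (hq : ∃ k, orderOf x2 = q ^ k)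
    {w : G} {Q : Subgroup G} (hQJ : Q ≤ centralizer {x1} ⊓ centralizer ({x2} : Set G)) (hQ : IsPGroup q Q)
    (hQc : Nat.card Q = q ^ (Nat.card (centralizer {x1} ⊓ centralizer ({x2} : Set G) : Subgroup G)).factorization q)
    (hw : w ∈ centralizer ({x1} : Set G) ∧ w ∈ centralizer ({x2} : Set G))
    (hwQ : Q ≤ centralizer ({w} : Set G)) : ¬ cc w ∣ cc x1 := by
  intro hd
  set J := centralizer {x1} ⊓ centralizer ({x2} : Set G)
  obtain ⟨k, hk⟩ := hq
  have hi : ¬ q ∣ (centralizer ({x2} : Set G)).index := by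
    intro hc
    have hnf := h.symm.not_full hna (Fact.out : q.Prime) hk
    rcases index_coprime_iff.mp h.coprime q (Fact.out : q.Prime) with h1 | h1
    · exact hnf h1
    · have h2 := mul_dvd_mul h1 hc
      rw [show cc x2 * (centralizer ({x2} : Set G)).index = Nat.card G from
        (centralizer ({x2} : Set G)).card_mul_index, ← pow_succ,
        (Fact.out : q.Prime).pow_dvd_iff_le_factorization Nat.card_pos.ne'] at h2
      omega
  have hfac : (cc x1).factorization q = (Nat.card J).factorization q := by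
    rw [← h.card_inf, Nat.factorization_mul Nat.card_pos.ne' index_ne_zero_of_finite, Finsupp.add_apply,
      Nat.factorization_eq_zero_of_not_dvd hi, add_zero]
  have hP : IsPGroup q (zpowers x2) := IsPGroup.of_card (n := k) (by rw [Nat.card_zpowers, hk])
  have hn : zpowers x2 ≤ normalizer (Q : Set G) := zpowers_le.mpr (centralizer_le_normalizer (Q : Set G)
    fun u hu => mem_cent.mp (hQJ hu).2)
  have e := eq_of_qgroup (cc_pos x1).ne' (hQ.to_sup_of_normal_left' hP hn) le_sup_left (hfac ▸ hQc)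
    ((card_dvd_of_le (sup_le hwQ (zpowers_le.mpr (mem_cent_symm hw.2)))).trans hd)
  have h2 := (hQJ (e ▸ mem_sup_right (mem_zpowers x2))).1
  exact not_commute_of_eq hna h h.ne1 h.ne2 rfl rfl (mem_cent.mp h2).symm

/-- Two elements of the intersection of the two centralizers. -/
theorem exists_inf_data (hna : ¬ IsMulCommutative G) {p k q l : ℕ} (hp : p.Prime) (hk : orderOf x1 = p ^ k)
    (hq : q.Prime) (hl : orderOf x2 = q ^ l)
    (hne : Nat.card (centralizer {x1} ⊓ centralizer ({x2} : Set G) : Subgroup G) ≠ 1) :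
    p ≠ q ∧ ∃ v w : G, v ∈ (centralizer {x1} ⊓ centralizer ({x2} : Set G) : Subgroup G) ∧
      w ∈ (centralizer {x1} ⊓ centralizer ({x2} : Set G) : Subgroup G) ∧ v ≠ 1 ∧ w ≠ 1 ∧
      (∃ j, orderOf v = p ^ j) ∧ (∃ j, orderOf w = q ^ j) ∧
      cc v ∣ cc x1 ∧ ¬ cc v ∣ cc x2 ∧ cc w ∣ cc x2 ∧ ¬ cc w ∣ cc x1 := by
  set J := centralizer {x1} ⊓ centralizer ({x2} : Set G) with hJ
  haveI := Fact.mk hp
  haveI := Fact.mk hq
  obtain ⟨Q, hQJ, hQ, hQc⟩ := exists_qgroup_le q J
  obtain ⟨P, hPJ, hP, hPc⟩ := exists_qgroup_le p J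
  have hA : ∀ w ∈ J, w ≠ 1 → Q ≤ centralizer ({w} : Set G) → ¬ cc w ∣ cc x1 := fun w hw _ hc =>
    h.not_dvd_of_central hna ⟨l, hl⟩ hQJ hQ hQc hw hc
  have hB : ∀ w ∈ J, w ≠ 1 → P ≤ centralizer ({w} : Set G) → ¬ cc w ∣ cc x2 := fun w hw _ hc =>
    h.symm.not_dvd_of_central hna ⟨k, hk⟩ (fun u hu => ⟨(hPJ hu).2, (hPJ hu).1⟩) hP (by rw [inf_comm]; exact hPc) ⟨hw.2, hw.1⟩ hc
  have hcent : ∀ (r : ℕ) [Fact r.Prime] (R : Subgroup G), R ≠ ⊥ → IsPGroup r R →
      ∃ z ∈ R, z ≠ 1 ∧ R ≤ centralizer ({z} : Set G) := by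
    intro r _ R hR hRg
    haveI := (nontrivial_iff_ne_bot R).mpr hR
    haveI := hRg.center_nontrivial
    obtain ⟨⟨⟨z, hz⟩, hzc⟩, hz1⟩ := exists_ne (1 : center R)
    exact ⟨z, hz, fun e => hz1 (Subtype.ext (Subtype.ext e)),
      fun u hu => mem_cent.mpr (congrArg Subtype.val (mem_center_iff.mp hzc ⟨u, hu⟩))⟩
  obtain ⟨w0, hw0, hw01⟩ : ∃ w ∈ J, w ≠ 1 := by
    by_contra hc
    push Not at hc
    exact hne (Subgroup.eq_bot_iff_forall J |>.mpr hc ▸ card_bot)
  have hQ0 : Q ≠ ⊥ := by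
    intro e
    rcases eq_or_ne P ⊥ with e' | e'
    · rcases h.dvd_or w0 hw01 with hd | hd
      · exact hA w0 hw0 hw01 (e ▸ bot_le) hd
      · exact hB w0 hw0 hw01 (e' ▸ bot_le) hd
    · obtain ⟨z, hz, hz1, hzP⟩ := hcent p P e' hP
      rcases h.dvd_or z hz1 with hd | hd
      · exact hA z (hPJ hz) hz1 (e ▸ bot_le) hd
      · exact hB z (hPJ hz) hz1 hzP hd
  have hP0 : P ≠ ⊥ := by
    intro e
    obtain ⟨z, hz, hz1, hzQ⟩ := hcent q Q hQ0 hQ
    rcases h.dvd_or z hz1 with hd | hd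
    · exact hA z (hQJ hz) hz1 hzQ hd
    · exact hB z (hQJ hz) hz1 (e ▸ bot_le) hd
  obtain ⟨v, hv, hv1, hvP⟩ := hcent p P hP0 hP
  obtain ⟨w, hw, hw1, hwQ⟩ := hcent q Q hQ0 hQ
  have hv' : ¬ cc v ∣ cc x2 := hB v (hPJ hv) hv1 hvP
  have hvd : cc v ∣ cc x1 := (h.dvd_or v hv1).resolve_right hv'
  have hw' : ¬ cc w ∣ cc x1 := hA w (hQJ hw) hw1 hwQ
  have hwd : cc w ∣ cc x2 := (h.dvd_or w hw1).resolve_left hw'
  have hpq : p ≠ q := by
    rintro rfl
    rcases index_coprime_iff.mp h.coprime p hp with h1 | h1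
    · exact h.symm.not_full hna hp hl h1
    · exact h.not_full hna hp hk h1
  exact ⟨hpq, v, w, hPJ hv, hQJ hw, hv1, hw1, exists_orderOf_eq_pow hP hv, exists_orderOf_eq_pow hQ hw,
    hvd, hv', hwd, hw'⟩

/-- With four values the intersection of the two centralizers is trivial. -/
theorem card_inf_eq_one (hna : ¬ IsMulCommutative G) (h4 : (orders G).ncard ≤ 4) :
    Nat.card (centralizer {x1} ⊓ centralizer ({x2} : Set G) : Subgroup G) = 1 := by
  by_contra hne
  obtain ⟨p, k, hp, hk⟩ := h.primary1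
  obtain ⟨q, l, hq, hl⟩ := h.primary2
  obtain ⟨hpq, v, w, hv, hw, hv1, hw1, hvj, -, hvd, hv', hwd, hw'⟩ := h.exists_inf_data hna hp hk hq hl hne
  have e1 : cc v ≠ cc x1 := fun e => not_commute_of_eq hna h hv1 h.ne2 e rfl (mem_cent.mp hv.2)
  have e2 : cc w ≠ cc x2 := fun e => not_commute_of_eq hna h h.ne1 hw1 rfl e (mem_cent.mp hw.1).symm
  have hco := coprime_of_not_eq hp hq hpq hvj ⟨l, hl⟩
  have hmul := mul_cent (show Commute v x2 from mem_cent.mp hv.2) hco
  have hu1 : v * x2 ≠ 1 := mul_ne_one_of_coprime hv1 hco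
  have hu_v : cc (v * x2) ∣ cc v := cc_le_of_le (hmul.le.trans inf_le_left)
  have hu_2 : cc (v * x2) ∣ cc x2 := cc_le_of_le (hmul.le.trans inf_le_right)
  have hu_1 : cc (v * x2) ∣ cc x1 := hu_v.trans hvd
  have hsub : ({cc x1, cc x2, cc v, cc w, cc (v * x2)} : Finset ℕ) ⊆ (orders_finite (G := G)).toFinset := by
    simp only [Finset.insert_subset_iff, Finset.singleton_subset_iff, Set.Finite.mem_toFinset]
    exact ⟨⟨_, h.ne1, rfl⟩, ⟨_, h.ne2, rfl⟩, ⟨_, hv1, rfl⟩, ⟨_, hw1, rfl⟩, ⟨_, hu1, rfl⟩⟩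
  have hle := Finset.card_le_card hsub
  rw [← Set.ncard_eq_toFinset_card (orders G) orders_finite] at hle
  have n12 : cc x1 ≠ cc x2 := fun e => h.not_dvd (e ▸ dvd_rfl)
  have nvw : cc v ≠ cc w := fun e => hv' (e ▸ hwd)
  have n1w : cc x1 ≠ cc w := fun e => hw' (e ▸ dvd_rfl)
  have n2v : cc x2 ≠ cc v := fun e => hv' (e ▸ dvd_rfl)
  have n1u : cc x1 ≠ cc (v * x2) := fun e => h.not_dvd (e ▸ hu_2)
  have n2u : cc x2 ≠ cc (v * x2) := fun e => h.not_dvd' (e ▸ hu_1)
  have nvu : cc v ≠ cc (v * x2) := fun e => hv' (e ▸ hu_2)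
  have nwu : cc w ≠ cc (v * x2) := fun e => hw' (e ▸ hu_1)
  rw [Finset.card_insert_of_notMem (by simp [n12, e1.symm, n1w, n1u]),
    Finset.card_insert_of_notMem (by simp [n2v, e2.symm, n2u]),
    Finset.card_insert_of_notMem (by simp [nvw, nvu]),
    Finset.card_insert_of_notMem (by simp [nwu]), Finset.card_singleton] at hle
  omega

end TwoHeaded

/-- An element with abelian complement as the centralizer of another is the only conjugate of itself that commutes
with it. -/
theorem isolated_of_cc (hna : ¬ IsMulCommutative G) {t x2 : G} (ht1 : t ≠ 1) (hx2 : x2 ≠ 1)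
    (hco : (centralizer ({t} : Set G)).index.Coprime (centralizer ({x2} : Set G)).index)
    (hJ : (cc t).Coprime (cc x2)) (hprod : cc t * cc x2 = Nat.card G)
    (hcomm : ∀ a ∈ centralizer ({x2} : Set G), ∀ b ∈ centralizer ({x2} : Set G), a * b = b * a)
    (hcent : ∀ a ∈ centralizer ({x2} : Set G), a ≠ 1 → centralizer ({a} : Set G) = centralizer {x2}) :
    ∀ a : G, a⁻¹ * t * a ∈ centralizer ({t} : Set G) → a ∈ centralizer ({t} : Set G) := by
  haveI := Fintype.ofFinite G
  let S : Reg G :=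
    { W := centralizer {x2}
      M := centralizer {t}
      comm := hcomm
      cent := hcent
      prod := by rw [mul_comm]; exact hprod
      ti := fun g a ha hgm => by
        rw [← orderOf_eq_one_iff]
        refine Nat.eq_one_of_dvd_coprimes hJ ?_ (orderOf_dvd_cc ha)
        have := orderOf_dvd_cc hgm
        rwa [show g⁻¹ * a * g = g⁻¹ * a * g⁻¹⁻¹ by rw [inv_inv], ← MulAut.conj_apply,
          MulEquiv.orderOf_eq] at this }
  have hcc : ∀ a ∈ centralizer ({x2} : Set G), a ≠ 1 → cc a = cc x2 := fun a ha ha1 =>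
    congrArg (fun H : Subgroup G => Nat.card H) (hcent a ha ha1)
  have hidx : ∀ a ∈ centralizer ({x2} : Set G), a ≠ 1 →
      (centralizer ({a} : Set G)).index.Coprime (centralizer ({t} : Set G)).index := fun a ha ha1 => by
    rw [hcent a ha ha1]
    exact hco.symm
  haveI := mono_of_simple hna
  exact fun a ha =>
    mem_of_conj_mem S (y := t) (self_mem t) ht1 ⟨x2, self_mem x2, hx2⟩
      (fun hall => class_comm_absurd ht1 fun g => by
        have := mem_cent.mp (hall g⁻¹)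
        rwa [inv_inv] at this)
      (fun a ha ha1 g => by
        obtain ⟨c, hc, k, hk, e⟩ := exists_factor _ _ (hidx a ha ha1).symm g
        exact ⟨c, k, mem_cent.mp hc, mem_cent.mp hk, e⟩)
      (fun a ha ha1 g hg => by
        have hne : g⁻¹ * (a * t) * g ≠ 1 := fun e => by
          have e' : a * t = 1 := by
            rw [show a * t = g * (g⁻¹ * (a * t) * g) * g⁻¹ by group, e]; group
          have hat : a = t⁻¹ := eq_inv_of_mul_eq_one_left e'
          exact ht1 (orderOf_eq_one_iff.mp (Nat.eq_one_of_dvd_coprimes hJ (orderOf_dvd_cc (self_mem t))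
            (show orderOf t ∣ cc x2 by rw [← orderOf_inv, ← hat]; exact orderOf_dvd_cc ha)))
        have h1 := hcc _ hg hne
        rw [show g⁻¹ * (a * t) * g = g⁻¹ * (a * t) * g⁻¹⁻¹ by rw [inv_inv], cc_conj] at h1
        exact cc_mul_ne hna ha1 ht1 (hidx a ha ha1) (h1.trans (hcc a ha ha1).symm))
      ha

/-- An element whose centralizer meets no other class of the poset: no involution is isolated. -/
theorem no_involution (hna : ¬ IsMulCommutative G) {t x2 : G} (ht : orderOf t = 2) (hx2 : x2 ≠ 1)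
    (hco : (centralizer ({t} : Set G)).index.Coprime (centralizer ({x2} : Set G)).index)
    (hJ : (cc t).Coprime (cc x2)) (hprod : cc t * cc x2 = Nat.card G)
    (hcomm : ∀ a ∈ centralizer ({x2} : Set G), ∀ b ∈ centralizer ({x2} : Set G), a * b = b * a)
    (hcent : ∀ a ∈ centralizer ({x2} : Set G), a ≠ 1 → centralizer ({a} : Set G) = centralizer {x2}) : False := by
  haveI := Fact.mk Nat.prime_two
  haveI := mono_of_simple hna
  have ht1 : t ≠ 1 := fun e => by simp [e] at ht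
  have hiso := isolated_of_cc hna ht1 hx2 hco hJ hprod hcomm hcent
  have hfull : 2 ^ (Nat.card G).factorization 2 ∣ cc t := by
    rcases index_coprime_iff.mp hco 2 Nat.prime_two with h | h
    · exact h
    · exfalso
      have h2 : 2 ∣ cc x2 := (dvd_pow_self 2
        (Nat.prime_two.factorization_pos_of_dvd Nat.card_pos.ne' (two_dvd_card hna)).ne').trans h
      have := Nat.eq_one_of_dvd_coprimes hJ (ht ▸ orderOf_dvd_cc (self_mem t)) h2
      omega
  obtain ⟨R, hR⟩ := exists_sylow_le' hfull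
  have htR : t ∈ (R : Subgroup G) := by
    have hp : IsPGroup 2 (zpowers t) := IsPGroup.of_card (n := 1) (by rw [Nat.card_zpowers, ht, pow_one])
    have hn : zpowers t ≤ normalizer ((R : Subgroup G) : Set G) := zpowers_le.mpr
      (centralizer_le_normalizer ((R : Subgroup G) : Set G) fun u hu => mem_cent.mp (hR hu))
    exact R.is_maximal' (R.2.to_sup_of_normal_left' hp hn) le_sup_left ▸ mem_sup_right (mem_zpowers t)
  obtain ⟨N, hN, hodd, hcomm'⟩ := Cfsg.Agent.S0215.result R t ht htR fun g hg => by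
    have h1 := hiso g⁻¹ (by rw [inv_inv]; exact hR hg)
    have h2 : g * t = t * g := mem_cent.mp (by simpa using inv_mem h1)
    rw [h2, mul_inv_cancel_right]
  rcases hN.eq_bot_or_eq_top with e | e
  · refine class_comm_absurd ht1 fun g => ?_
    have h1 := hcomm' g
    rw [e, mem_bot, mul_inv_eq_one, mul_inv_eq_iff_eq_mul] at h1
    rw [← h1, mul_inv_cancel_right]
  · rw [e, card_top] at hodd
    exact Nat.not_even_iff_odd.mpr hodd ((Nat.even_iff).mpr (Nat.mod_eq_zero_of_dvd (two_dvd_card hna)))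

/-- A group with four orders of centralizers. -/
theorem inv_of_four (hna : ¬ IsMulCommutative G) (h4 : (orders G).ncard = 4) : ∃ m, Inv G m := by
  haveI := mono_of_simple hna
  have hfin := orders_finite (G := G)
  by_cases hone : ∃ m, ∀ x : G, x ≠ 1 → ¬ Head G (cc x) → cc x = m
  · obtain ⟨m, hm⟩ := hone
    exact ⟨m, fun v hv x hx hd hne => hm x hx fun hh =>
      hne (hh.2 _ ⟨v, fun e => by simp [e] at hv, rfl⟩ hd).symm⟩
  push Not at hone
  obtain ⟨xa, hxa, hah, -⟩ := hone 0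
  obtain ⟨xb, hxb, hbh, hab⟩ := hone (cc xa)
  obtain ⟨n1, hn1, -⟩ := exists_head (G := G) ⟨xa, hxa, rfl⟩
  obtain ⟨n2, hn2, hne⟩ := two_heads hna hn1
  obtain ⟨y1, p, hp, hy1, hy1p, e1⟩ := hn1.exists_primary
  obtain ⟨y2, q, hq, hy2, hy2p, e2⟩ := hn2.exists_primary
  have hset : orders G = {cc xa, cc xb, n1, n2} := by
    symm
    refine Set.eq_of_subset_of_ncard_le ?_ ?_ hfin
    · rintro v (rfl | rfl | rfl | rfl)
      exacts [⟨_, hxa, rfl⟩, ⟨_, hxb, rfl⟩, hn1.1, hn2.1]
    · have na1 : cc xa ≠ n1 := fun e => hah (e ▸ hn1)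
      have na2 : cc xa ≠ n2 := fun e => hah (e ▸ hn2)
      have nb1 : cc xb ≠ n1 := fun e => hbh (e ▸ hn1)
      have nb2 : cc xb ≠ n2 := fun e => hbh (e ▸ hn2)
      rw [h4, Set.ncard_insert_of_notMem (by simp [hab.symm, na1, na2]),
        Set.ncard_insert_of_notMem (by simp [nb1, nb2]), Set.ncard_pair hne.symm]
  have hdo : ∀ x : G, x ≠ 1 → cc x ∣ n1 ∨ cc x ∣ n2 := by
    intro x hx
    obtain ⟨v, hv, hd⟩ := exists_head (G := G) ⟨x, hx, rfl⟩
    have hv' := hv.1
    rw [hset] at hv'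
    rcases hv' with rfl | rfl | rfl | rfl
    · exact absurd hv hah
    · exact absurd hv hbh
    · exact Or.inl hd
    · exact Or.inr hd
  subst e1 e2
  have hT : TwoHeaded y1 y2 := ⟨hy1, hy2, fun hd => hne (hn1.2 _ hn2.1 hd), fun hd => hne (hn2.2 _ hn1.1 hd).symm,
    hdo, ⟨p, hy1p.choose, hp, hy1p.choose_spec⟩, ⟨q, hy2p.choose, hq, hy2p.choose_spec⟩⟩
  -- choose the names so that the first head is even
  obtain ⟨x1, x2, h, hset', h2⟩ : ∃ x1 x2 : G, TwoHeaded x1 x2 ∧ orders G = {cc xa, cc xb, cc x1, cc x2} ∧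
      2 ∣ cc x1 := by
    have h2pos : (Nat.card G).factorization 2 ≠ 0 :=
      (Nat.prime_two.factorization_pos_of_dvd Nat.card_pos.ne' (two_dvd_card hna)).ne'
    rcases index_coprime_iff.mp hT.coprime 2 Nat.prime_two with h1 | h1
    · exact ⟨y1, y2, hT, hset, (dvd_pow_self 2 h2pos).trans h1⟩
    · exact ⟨y2, y1, hT.symm, by rw [hset, Set.pair_comm (cc y1)], (dvd_pow_self 2 h2pos).trans h1⟩
  have hJ := h.card_inf_eq_one hna (by omega)
  have hc1 := h.card_inf
  rw [hJ, one_mul] at hc1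
  have hc2 := h.symm.card_inf
  rw [inf_comm, hJ, one_mul] at hc2
  have hprod : cc x1 * cc x2 = Nat.card G := by
    conv_lhs => rw [← hc1, mul_comm]
    exact (centralizer ({x2} : Set G)).card_mul_index
  have hco : (cc x1).Coprime (cc x2) := by
    rw [← hc1, ← hc2]; exact h.coprime.symm
  have hnot : ∀ x : G, x ≠ 1 → cc x ∣ cc x1 → ¬ cc x ∣ cc x2 := fun x hx ha hb => by
    have e := Nat.eq_one_of_dvd_coprimes hco ha hb
    have := orderOf_dvd_cc (self_mem x)
    rw [e, Nat.dvd_one, orderOf_eq_one_iff] at this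
    exact hx this
  have heven : ∀ v : G, orderOf v = 2 → cc v ∣ cc x1 := fun v hv => by
    have hv1 : v ≠ 1 := fun e => by simp [e] at hv
    refine (h.dvd_or v hv1).resolve_right fun hd => ?_
    have := Nat.eq_one_of_dvd_coprimes hco h2 ((hv ▸ orderOf_dvd_cc (self_mem v)).trans hd)
    omega
  have h4' : ∀ x : G, x ≠ 1 → cc x = cc xa ∨ cc x = cc xb ∨ cc x = cc x1 ∨ cc x = cc x2 := fun x hx => by
    have hmem : cc x ∈ orders G := ⟨x, hx, rfl⟩
    rw [hset'] at hmem
    exact hmem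
  by_cases hboth : cc xa ∣ cc x1 ∧ cc xb ∣ cc x1
  swap
  · obtain ⟨m, hm⟩ : ∃ m, ∀ x : G, x ≠ 1 → cc x ∣ cc x1 → cc x ≠ cc x1 → cc x = m := by
      refine ⟨if cc xa ∣ cc x1 then cc xa else cc xb, fun x hx hd hne' => ?_⟩
      rcases h4' x hx with e | e | e | e
      · rw [e] at hd ⊢
        rw [if_pos hd]
      · rw [e] at hd ⊢
        rw [if_neg fun ha => hboth ⟨ha, hd⟩]
      · exact absurd e hne'
      · exact absurd (e ▸ dvd_rfl) (hnot x hx hd)
    refine ⟨m, fun v hv x hx hd hne' => hm x hx (hd.trans (heven v hv)) fun e => ?_⟩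
    exact hne' (Nat.dvd_antisymm hd (e.symm ▸ heven v hv))
  -- the second centralizer is an abelian subgroup containing the centralizers of its elements
  have hsingle : ∀ x : G, x ≠ 1 → cc x ∣ cc x2 → cc x = cc x2 := fun x hx hd => by
    rcases h4' x hx with e | e | e | e
    · exact absurd (e ▸ hboth.1) fun ha => hnot x hx ha hd
    · exact absurd (e ▸ hboth.2) fun ha => hnot x hx ha hd
    · exact absurd (e ▸ dvd_rfl) fun ha => hnot x hx ha hd
    · exact e
  obtain ⟨q', l, hq', hl⟩ := h.primary2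
  have hmin : MinC x2 := ⟨h.ne2, fun y hy hd => hsingle y hy hd⟩
  have hK : ∀ a ∈ centralizer ({x2} : Set G), a ≠ 1 → cc a = cc x2 := fun a ha ha1 => by
    refine hsingle a ha1 ((h.dvd_or a ha1).resolve_left fun hd => ?_)
    exact ha1 (orderOf_eq_one_iff.mp
      (Nat.eq_one_of_dvd_coprimes hco ((orderOf_dvd_cc (self_mem a)).trans hd) (orderOf_dvd_cc ha)))
  obtain ⟨r, hr, hrq, hrd⟩ : ∃ r : ℕ, r.Prime ∧ r ≠ q' ∧ r ∣ cc x2 := by
    by_contra hc
    push Not at hc
    obtain ⟨j, hj⟩ : ∃ j, cc x2 = q' ^ j := ⟨_, Nat.eq_prime_pow_of_unique_prime_dvd (cc_pos x2).ne' fun {d} hd hdd =>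
      by_contra fun hne' => hc d hd hne' hdd⟩
    exact index_not_primePow h.ne1 hq' (k := j) (hj ▸ hprod.symm)
  obtain ⟨u, hu, huo, hu1⟩ := exists_orderOf_dvd hr hrd
  have huco : ∀ a : G, (∃ j, orderOf a = q' ^ j) → (orderOf u).Coprime (orderOf a) := fun a ha =>
    coprime_of_not_eq hr hq' hrq ⟨1, by rw [huo, pow_one]⟩ ha
  have hCu : centralizer ({u} : Set G) = centralizer {x2} :=
    (eq_of_le_of_card_ge (hmin.le (mem_cent.mp hu).symm (huco x2 ⟨l, hl⟩).symm) (hK u hu hu1).le).symm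
  have humin : MinC u := ⟨hu1, fun y hy hd => by
    rw [hK u hu hu1] at hd ⊢
    exact hsingle y hy hd⟩
  have hcomm : ∀ a ∈ centralizer ({x2} : Set G), ∀ b ∈ centralizer ({x2} : Set G), a * b = b * a := by
    intro a ha b hb
    obtain ⟨i, j, hj, hij⟩ := Nat.exists_eq_pow_mul_and_not_dvd (orderOf_pos a).ne' q' hq'.ne_one
    have hc := (Nat.Prime.coprime_iff_not_dvd hq').mpr hj
    have hj0 : j ≠ 0 := fun e => hj (e ▸ dvd_zero q')
    have e : a ^ ((q' ^ i : ℕ) * (q' ^ i).gcdA j + (j : ℕ) * (q' ^ i).gcdB j : ℤ) = a := by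
      rw [← Nat.gcd_eq_gcd_ab, Nat.Coprime.gcd_eq_one (hc.pow_left i), Nat.cast_one, zpow_one]
    have h1 : Commute (a ^ q' ^ i) b := by
      have hco' : (orderOf x2).Coprime (orderOf (a ^ q' ^ i)) := by
        rw [hl, orderOf_pow_of_dvd (pow_pos hq'.pos i).ne' (hij ▸ dvd_mul_right _ _), hij,
          Nat.mul_div_cancel_left _ (pow_pos hq'.pos i)]
        exact hc.pow_left l
      exact (mem_cent.mp (hmin.le ((show Commute x2 a from (mem_cent.mp ha).symm).pow_right _) hco' hb)).symm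
    have h2 : Commute (a ^ j) b := by
      have haj : orderOf (a ^ j) = q' ^ i := by
        rw [orderOf_pow_of_dvd hj0 (hij ▸ dvd_mul_left _ _), hij, Nat.mul_div_cancel _ (Nat.pos_of_ne_zero hj0)]
      have hau : Commute u a := (mem_cent.mp (hCu.symm ▸ ha : a ∈ centralizer ({u} : Set G))).symm
      exact (mem_cent.mp (humin.le (hau.pow_right _) (huco _ ⟨i, haj⟩) (hCu.symm ▸ hb))).symm
    rw [← e, zpow_add, zpow_mul, zpow_mul, zpow_natCast, zpow_natCast]
    exact ((h1.zpow_left _).mul_left (h2.zpow_left _)).eq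
  have hcent : ∀ a ∈ centralizer ({x2} : Set G), a ≠ 1 → centralizer ({a} : Set G) = centralizer {x2} :=
    fun a ha ha1 => (eq_of_le_of_card_ge (fun b hb => mem_cent.mpr (hcomm b hb a ha)) (hK a ha ha1).le).symm
  refine ⟨min (cc xa) (cc xb), fun v hv x hx hd hne' => ?_⟩
  have hv1 : v ≠ 1 := fun e => by simp [e] at hv
  have hvn : cc v ≠ cc x1 := fun e => by
    refine no_involution hna hv h.ne2 (index_coprime_iff.mpr fun r hr => ?_) (e ▸ hco) (e ▸ hprod) hcomm hcent
    rw [e]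
    exact index_coprime_iff.mp h.coprime r hr
  have hv' : cc v = cc xa ∨ cc v = cc xb := by
    rcases h4' v hv1 with e | e | e | e
    · exact Or.inl e
    · exact Or.inr e
    · exact absurd e hvn
    · exact absurd (e ▸ dvd_rfl) (hnot v hv1 (heven v hv))
  have hle := Nat.le_of_dvd (cc_pos v) hd
  rcases h4' x hx with e | e | e | e
  · rw [e] at hle hne' ⊢
    rcases hv' with e' | e' <;> rw [e'] at hle hne' <;> omega
  · rw [e] at hle hne' ⊢
    rcases hv' with e' | e' <;> rw [e'] at hle hne' <;> omega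
  · exact absurd (Nat.dvd_antisymm hd (e.symm ▸ heven v hv)) hne'
  · exact absurd (e ▸ dvd_rfl) (hnot x hx (hd.trans (heven v hv)))

end CfsgLib.ConjRankFour
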