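import Cfsg.Agent.Lib.ConjRankFour.Basic
import Cfsg.Agent.Lib.Suzuki.Partition
import Cfsg.Agent.Lib.Suzuki.Lie
import Cfsg.Agent.Lib.CITExt.L34
import Cfsg.Agent.Lib.SmallSimple.PSL34
import Cfsg.Agent.S4355

set_option autoImplicit false
set_option linter.style.haveILetI false

/-!
The Suzuki groups, the alternating group of degree seven and the projective special linear group of degree three
over four elements have at least five orders of centralizers.
-/

namespace CfsgLib.ConjRankFour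

open Cfsg Subgroup CfsgLib.ConjRankThree

universe u v

theorem orders_equiv {G : Type u} [Group G] {H : Type v} [Group H] (e : G ≃* H) : orders G = orders H := by
  have key : ∀ x : G, cc x = cc (e x) := fun x => by
    refine Nat.card_congr (e.toEquiv.subtypeEquiv fun z => ?_)
    simp only [mem_cent]
    exact ⟨fun h => by show e z * e x = e x * e z; rw [← map_mul, h, map_mul], fun h => e.injective (by simpa using h)⟩
  ext v
  constructor
  · rintro ⟨x, hx, rfl⟩
    exact ⟨e x, e.map_ne_one_iff.mpr hx, (key x).symm⟩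
  · rintro ⟨y, hy, rfl⟩
    exact ⟨e.symm y, e.symm.map_ne_one_iff.mpr hy, by rw [key, e.apply_symm_apply]⟩

theorem five_le {G : Type u} [Group G] [Finite G] {a b c d f : G} (ha : a ≠ 1) (hb : b ≠ 1) (hc : c ≠ 1) (hd : d ≠ 1)
    (hf : f ≠ 1) (h : [cc a, cc b, cc c, cc d, cc f].Nodup) : 5 ≤ (orders G).ncard := by
  classical
  rw [Set.ncard_eq_toFinset_card (orders G) orders_finite]
  refine (List.toFinset_card_of_nodup h).symm.le.trans (Finset.card_le_card fun v hv => ?_)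
  rw [Set.Finite.mem_toFinset]
  simp only [List.mem_toFinset, List.mem_cons, List.not_mem_nil, or_false] at hv
  rcases hv with rfl | rfl | rfl | rfl | rfl
  exacts [⟨a, ha, rfl⟩, ⟨b, hb, rfl⟩, ⟨c, hc, rfl⟩, ⟨d, hd, rfl⟩, ⟨f, hf, rfl⟩]

theorem five_le_suzuki {G : Type u} [Group G] (h : Cfsg.Lie.IsoSuzuki G) : 5 ≤ (orders G).ncard := by
  obtain ⟨F, _, _, m, hm, hF, ⟨e⟩⟩ := h
  rw [orders_equiv (e.trans (CfsgLib.Suzuki.lieEquiv hF hm).symm)]
  obtain ⟨Ap, Am, -, hp, up, -, -, hmc, um, -, -⟩ := CfsgLib.Suzuki.classify hF hm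
  have hr : 4 ≤ 2 ^ (m + 1) := Nat.pow_le_pow_right two_pos (show 2 ≤ m + 1 by omega)
  have hqr : 2 * 2 ^ (m + 1) ≤ 2 ^ (2 * m + 1) := by
    rw [← pow_succ']
    exact Nat.pow_le_pow_right two_pos (by omega)
  obtain ⟨⟨a, ha⟩, ha1⟩ := ne_bot_iff_exists_ne_one.mp (fun e : Ap = ⊥ => by rw [e, card_bot] at hp; omega)
  obtain ⟨⟨b, hb⟩, hb1⟩ := ne_bot_iff_exists_ne_one.mp (fun e : Am = ⊥ => by rw [e, card_bot] at hmc; omega)
  obtain ⟨⟨c, hc⟩, hc1⟩ := ne_bot_iff_exists_ne_one.mp (fun e : CfsgLib.Suzuki.T hF = ⊥ => by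
    have := CfsgLib.Suzuki.card_T hF
    rw [e, card_bot] at this
    omega)
  have ha1' : a ≠ 1 := fun e => ha1 (Subtype.ext e)
  have hb1' : b ≠ 1 := fun e => hb1 (Subtype.ext e)
  have hc1' : c ≠ 1 := fun e => hc1 (Subtype.ext e)
  have hca : cc a = 2 ^ (2 * m + 1) + 2 ^ (m + 1) + 1 := (congrArg (fun H : Subgroup _ => Nat.card H) (up a ha ha1')).trans hp
  have hcb : cc b = 2 ^ (2 * m + 1) - 2 ^ (m + 1) + 1 := (congrArg (fun H : Subgroup _ => Nat.card H) (um b hb hb1')).trans hmc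
  have hcc : cc c = 2 ^ (2 * m + 1) - 1 := by
    obtain ⟨t, rfl⟩ := (CfsgLib.Suzuki.mem_T hF).mp hc
    have ht : t ≠ 1 := fun e => hc1' (by rw [e, CfsgLib.Suzuki.dS_one])
    exact (congrArg (fun H : Subgroup _ => Nat.card H) (CfsgLib.Suzuki.centralizer_torus hF hm ht)).trans
      (CfsgLib.Suzuki.card_T hF)
  set z := CfsgLib.Suzuki.uS hF (m := m) 0 1 with hz
  set w := CfsgLib.Suzuki.uS hF (m := m) 1 0 with hw
  have hzU : z ∈ CfsgLib.Suzuki.U hF := ⟨_, _, rfl⟩
  have hwU : w ∈ CfsgLib.Suzuki.U hF := ⟨_, _, rfl⟩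
  have hz1 : z ≠ 1 := fun e => by
    rw [hz, ← CfsgLib.Suzuki.uS_zero hF (m := m)] at e
    exact one_ne_zero (CfsgLib.Suzuki.uS_inj hF e).2
  have hw1 : w ≠ 1 := fun e => by
    rw [hw, ← CfsgLib.Suzuki.uS_zero hF (m := m)] at e
    exact one_ne_zero (CfsgLib.Suzuki.uS_inj hF e).1
  have hcz : cc z = (2 ^ (2 * m + 1)) ^ 2 := by
    rw [← CfsgLib.Suzuki.card_U hF]
    refine congrArg (fun H : Subgroup _ => Nat.card H) (le_antisymm (CfsgLib.Suzuki.centralizer_unipotent hF hm hzU hz1) ?_)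
    rintro _ ⟨p, q, rfl⟩
    rw [mem_cent, hz, CfsgLib.Suzuki.uS_mul, CfsgLib.Suzuki.uS_mul]
    simp only [CfsgLib.Suzuki.th_zero, zero_mul, mul_zero, add_zero, zero_add, add_comm q 1]
  have hwle := CfsgLib.Suzuki.centralizer_unipotent hF hm hwU hw1
  have hwne : centralizer {w} ≠ CfsgLib.Suzuki.U hF := fun e => by
    refine one_ne_zero (α := F) (CfsgLib.Suzuki.mem_center_U hF hm (a := 1) (b := 0) fun c d => ?_)
    have h1 : CfsgLib.Suzuki.uS hF c d ∈ centralizer ({w} : Set ↥(Cfsg.Sz F m)) := e ▸ ⟨c, d, rfl⟩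
    exact (mem_cent.mp h1).symm
  have hwlt : cc w < (2 ^ (2 * m + 1)) ^ 2 := by
    rw [← CfsgLib.Suzuki.card_U hF]
    exact lt_of_le_of_ne (card_le_of_le hwle) fun e => hwne (eq_of_le_of_card_ge hwle e.ge)
  have heven : 2 ∣ cc w := by
    have hd : cc w ∣ 2 ^ ((2 * m + 1) * 2) := by
      rw [pow_mul, ← CfsgLib.Suzuki.card_U hF]
      exact card_dvd_of_le hwle
    obtain ⟨j, -, hj⟩ := (Nat.dvd_prime_pow Nat.prime_two).mp hd
    rw [hj]
    refine dvd_pow_self 2 fun e => hw1 ?_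
    have := orderOf_dvd_cc (self_mem w)
    rw [hj, e, pow_zero, Nat.dvd_one, orderOf_eq_one_iff] at this
    exact this
  have hq : 2 ∣ 2 ^ (2 * m + 1) := dvd_pow_self 2 (by omega)
  have hr2 : 2 ∣ 2 ^ (m + 1) := dvd_pow_self 2 (by omega)
  have hq2 : 2 ∣ (2 ^ (2 * m + 1)) ^ 2 := dvd_pow hq two_ne_zero
  refine five_le ha1' hb1' hc1' hz1 hw1 ?_
  simp only [List.nodup_cons, List.mem_cons, List.not_mem_nil, or_false, List.nodup_nil, and_true, hca, hcb, hcc, hcz,
    not_or]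
  refine ⟨⟨?_, ?_, ?_, ?_⟩, ⟨?_, ?_, ?_⟩, ⟨?_, ?_⟩, ?_, not_false⟩ <;> omega

theorem five_le_alternating_seven {G : Type u} [Group G] (e : G ≃* alternatingGroup (Fin 7)) :
    5 ≤ (orders G).ncard := by
  rw [orders_equiv e]
  have hsandwich : ∀ x : alternatingGroup (Fin 7), cc x ∣ Nat.card (centralizer ({(x : Equiv.Perm (Fin 7))} : Set _)) ∧
      Nat.card (centralizer ({(x : Equiv.Perm (Fin 7))} : Set _)) ≤ 2 * cc x := by
    intro x
    let H := alternatingGroup (Fin 7)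
    set C := centralizer ({(x : Equiv.Perm (Fin 7))} : Set _)
    have h1 : cc x = Nat.card (H.subgroupOf C) := by
      refine Nat.card_congr ⟨fun z => ⟨⟨z.1, mem_cent.mpr (congrArg Subtype.val (mem_cent.mp z.2))⟩, z.1.2⟩,
        fun z => ⟨⟨z.1.1, z.2⟩, mem_cent.mpr (Subtype.ext (mem_cent.mp z.1.2))⟩, fun z => rfl, fun z => rfl⟩
    refine ⟨h1 ▸ card_subgroup_dvd_card _, ?_⟩
    rw [h1, ← (H.subgroupOf C).card_mul_index, mul_comm 2]
    refine Nat.mul_le_mul_left _ ?_
    exact (Nat.le_of_dvd (Nat.pos_of_ne_zero index_ne_zero_of_finite) (relIndex_dvd_index_of_normal H C)).trans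
      (le_of_eq alternatingGroup.index_eq_two)
  have hval : ∀ (g : Equiv.Perm (Fin 7)) (n : ℕ), (Fintype.card (Fin 7) - g.cycleType.sum).factorial *
      g.cycleType.prod * (∏ k ∈ g.cycleType.toFinset, (g.cycleType.count k).factorial) = n →
      Nat.card (centralizer ({g} : Set (Equiv.Perm (Fin 7)))) = n := fun g n hn => by
    rw [Equiv.Perm.nat_card_centralizer, hn]
  let a : alternatingGroup (Fin 7) := ⟨Equiv.swap 0 1 * Equiv.swap 2 3, by rw [Equiv.Perm.mem_alternatingGroup]; decide⟩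
  let b : alternatingGroup (Fin 7) := ⟨Equiv.swap 0 1 * Equiv.swap 1 2, by rw [Equiv.Perm.mem_alternatingGroup]; decide⟩
  let c : alternatingGroup (Fin 7) :=
    ⟨Equiv.swap 0 1 * Equiv.swap 1 2 * (Equiv.swap 3 4 * Equiv.swap 4 5), by
      rw [Equiv.Perm.mem_alternatingGroup]; decide⟩
  let d : alternatingGroup (Fin 7) :=
    ⟨Equiv.swap 0 1 * Equiv.swap 1 2 * Equiv.swap 2 3 * Equiv.swap 3 4, by rw [Equiv.Perm.mem_alternatingGroup]; decide⟩
  let f : alternatingGroup (Fin 7) :=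
    ⟨Equiv.swap 0 1 * Equiv.swap 1 2 * Equiv.swap 2 3 * Equiv.swap 3 4 * Equiv.swap 4 5 * Equiv.swap 5 6, by
      rw [Equiv.Perm.mem_alternatingGroup]; decide⟩
  have ea := hval a.1 48 (by decide)
  have eb := hval b.1 72 (by decide)
  have ec := hval c.1 18 (by decide)
  have ed := hval d.1 10 (by decide)
  have ef := hval f.1 7 (by decide)
  refine five_le (a := a) (b := b) (c := c) (d := d) (f := f) (by decide) (by decide) (by decide) (by decide) (by decide) ?_
  have ha := hsandwich a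
  have hb := hsandwich b
  have hc := hsandwich c
  have hd := hsandwich d
  have hf := hsandwich f
  rw [ea] at ha
  rw [eb] at hb
  rw [ec] at hc
  rw [ed] at hd
  rw [ef] at hf
  have two : ∀ v n : ℕ, n ≠ 0 → v ∣ n → n ≤ 2 * v → v = n ∨ 2 * v = n := by
    rintro v n hn ⟨k, rfl⟩ hle
    rcases Nat.lt_or_ge k 3 with hk | hk
    · interval_cases k
      · simp at hn
      · left; omega
      · right; omega
    · have := Nat.mul_le_mul_left v hk
      have : v ≠ 0 := by rintro rfl; simp at hn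
      omega
  have := two _ _ (by norm_num) ha.1 ha.2
  have := two _ _ (by norm_num) hb.1 hb.2
  have := two _ _ (by norm_num) hc.1 hc.2
  have := two _ _ (by norm_num) hd.1 hd.2
  have := two _ _ (by norm_num) hf.1 hf.2
  simp only [List.nodup_cons, List.mem_cons, List.not_mem_nil, or_false, List.nodup_nil, and_true, not_or]
  refine ⟨⟨?_, ?_, ?_, ?_⟩, ⟨?_, ?_, ?_⟩, ⟨?_, ?_⟩, ?_, not_false⟩ <;> omega

set_option maxHeartbeats 1600000 in
theorem five_le_psl_three_four {G : Type u} [Group G] [Finite G] {F : Type} [Field F] [Fintype F]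
    (hF : Fintype.card F = 4) (e : G ≃* Matrix.ProjectiveSpecialLinearGroup (Fin 3) F) :
    5 ≤ (orders G).ncard := by
  classical
  haveI := Fact.mk Nat.prime_two
  haveI := CfsgLib.PSL34.char_two hF
  rw [orders_equiv e]
  set P := Matrix.ProjectiveSpecialLinearGroup (Fin 3) F
  have hcard : Nat.card P = 20160 := CfsgLib.EppoAlmost.card_psl_three_four hF
  have hspec : ∀ g : P, orderOf g ∣ 4 ∨ orderOf g = 3 ∨ orderOf g = 5 ∨ orderOf g = 7 :=
    fun g => CfsgLib.CITExt.spectrum (MulEquiv.refl P) hF g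
  have hpow : ∀ (s : ℕ) [Fact s.Prime] (g : P), orderOf g = s → (s = 3 ∨ s = 5 ∨ s = 7) →
      ∀ r : ℕ, r.Prime → r ∣ cc g → r = s := by
    intro s _ g hg hs r hr hd
    obtain ⟨b, hb, hbo, -⟩ := exists_orderOf_dvd hr hd
    exact (CfsgLib.CITExt.prime_eq (MulEquiv.refl P) hF (Fact.out : s.Prime) (by omega) hr hg hbo
      (mem_cent.mp hb).symm).symm
  haveI := Fact.mk Nat.prime_three
  haveI : Fact (Nat.Prime 5) := ⟨by norm_num⟩
  haveI : Fact (Nat.Prime 7) := ⟨by norm_num⟩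
  obtain ⟨a, ha⟩ := exists_prime_orderOf_dvd_card' (G := P) 3 (by rw [hcard]; norm_num)
  obtain ⟨b, hb⟩ := exists_prime_orderOf_dvd_card' (G := P) 5 (by rw [hcard]; norm_num)
  obtain ⟨c, hc⟩ := exists_prime_orderOf_dvd_card' (G := P) 7 (by rw [hcard]; norm_num)
  have hne : ∀ (g : P) (s : ℕ), orderOf g = s → 1 < s → g ≠ 1 := fun g s h hs e => by
    rw [e, orderOf_one] at h; omega
  -- the 2-elements
  obtain ⟨R⟩ : Nonempty (Sylow 2 P) := inferInstance
  obtain ⟨z, hz, hzo, -, hzR⟩ := exists_central_sylow (show 2 ∣ Nat.card P by rw [hcard]; norm_num) R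
  have hzfull : 2 ^ (Nat.card P).factorization 2 ∣ cc z := sylow_dvd_of_le R hzR
  obtain ⟨w, hw, hwo, hwne⟩ : ∃ w : P, w ≠ 1 ∧ (∃ k, orderOf w = 2 ^ k) ∧
      ¬ 2 ^ (Nat.card P).factorization 2 ∣ cc w := by
    by_contra hall
    push Not at hall
    have hab := Cfsg.Agent.S4355.result (G := P) (fun g hg h2 => by
      by_cases hg1 : g = 1
      · rw [hg1, show centralizer ({(1 : P)} : Set P) = ⊤ from
          eq_top_iff.mpr fun y _ => mem_cent.mpr (by simp), index_top] at h2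
        omega
      · have h3 := mul_dvd_mul (hall g hg1 hg) h2
        rw [show cc g * (centralizer ({g} : Set P)).index = Nat.card P from card_mul_index _, ← pow_succ,
          Nat.prime_two.pow_dvd_iff_le_factorization Nat.card_pos.ne'] at h3
        omega)
    let X : Matrix.SpecialLinearGroup (Fin 3) F := ⟨!![1, 1, 0; 0, 1, 0; 0, 0, 1], by simp [Matrix.det_fin_three]⟩
    let Y : Matrix.SpecialLinearGroup (Fin 3) F := ⟨!![1, 0, 0; 0, 1, 1; 0, 0, 1], by simp [Matrix.det_fin_three]⟩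
    let π := QuotientGroup.mk' (center (Matrix.SpecialLinearGroup (Fin 3) F))
    have hX2 : X * X = 1 := Subtype.ext (by
      show X.1 * X.1 = 1
      ext i j
      fin_cases i <;> fin_cases j <;> simp [X, Matrix.SpecialLinearGroup.coe_mul, Matrix.mul_apply, Fin.sum_univ_three, CharTwo.add_self_eq_zero])
    have hY2 : Y * Y = 1 := Subtype.ext (by
      show Y.1 * Y.1 = 1
      ext i j
      fin_cases i <;> fin_cases j <;> simp [Y, Matrix.SpecialLinearGroup.coe_mul, Matrix.mul_apply, Fin.sum_univ_three, CharTwo.add_self_eq_zero])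
    have h4 : (X * Y) * (X * Y) * ((X * Y) * (X * Y)) = 1 := Subtype.ext (by
      show (X.1 * Y.1) * (X.1 * Y.1) * ((X.1 * Y.1) * (X.1 * Y.1)) = 1
      ext i j
      fin_cases i <;> fin_cases j <;> simp [X, Y, Matrix.SpecialLinearGroup.coe_mul, Matrix.mul_apply, Fin.sum_univ_three, CharTwo.add_self_eq_zero])
    have hnc : π X * π Y ≠ π Y * π X := by
      intro h
      rw [← map_mul, ← map_mul] at h
      have h1 : π ((Y * X)⁻¹ * (X * Y)) = 1 := by rw [map_mul, map_inv, h, inv_mul_cancel]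
      obtain ⟨r, -, hr⟩ := (CfsgLib.PSL34.mkP_eq_one hF).mp h1
      have h2 : (Y * X : Matrix.SpecialLinearGroup (Fin 3) F).1 * ((Y * X)⁻¹ * (X * Y)).1 = (X * Y).1 := by
        rw [← Matrix.SpecialLinearGroup.coe_mul, mul_inv_cancel_left]
      rw [hr] at h2
      replace h2 : Y.1 * X.1 * (r • (1 : Matrix (Fin 3) (Fin 3) F)) = X.1 * Y.1 := h2
      have e1 := congrFun (congrFun h2 0) 2
      simp [X, Y, Matrix.SpecialLinearGroup.coe_mul, Matrix.mul_apply, Fin.sum_univ_three] at e1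
    set x := π X
    set y := π Y
    have hx2 : x * x = 1 := by rw [← map_mul, hX2, map_one]
    have hy2 : y * y = 1 := by rw [← map_mul, hY2, map_one]
    have hs4 : x * y * (x * y) * (x * y * (x * y)) = 1 := by
      simp only [x, y, ← map_mul, h4, map_one]
    set c := x * y * (x * y) with hcdef
    have hc1 : c ≠ 1 := fun e1 => hnc (by
      calc x * y = (x * y)⁻¹ := (inv_eq_of_mul_eq_one_right e1).symm
        _ = y⁻¹ * x⁻¹ := mul_inv_rev x y
        _ = y * x := by rw [inv_eq_of_mul_eq_one_right hx2, inv_eq_of_mul_eq_one_right hy2])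
    have hxi : x⁻¹ = x := inv_eq_of_mul_eq_one_right hx2
    have hyi : y⁻¹ = y := inv_eq_of_mul_eq_one_right hy2
    have hci : c⁻¹ = c := inv_eq_of_mul_eq_one_right hs4
    have hcx : x * c = c * x := by
      calc x * c = y * x * y := by rw [hcdef, show x * (x * y * (x * y)) = x * x * (y * x * y) by group, hx2, one_mul]
        _ = y⁻¹ * x⁻¹ * y⁻¹ := by rw [hxi, hyi]
        _ = c⁻¹ * x := by rw [hcdef]; group
        _ = c * x := by rw [hci]
    have hcy : y * c = c * y := by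
      calc y * c = (y * x * y * x) * y := by rw [hcdef]; group
        _ = c⁻¹ * y := by rw [hcdef, mul_inv_rev, mul_inv_rev, hxi, hyi]; group
        _ = c * y := by rw [hci]
    have hc2 : orderOf c = 2 := orderOf_eq_prime (by rw [sq]; exact hs4) hc1
    set C := centralizer ({c} : Set P)
    have hCp : IsPGroup 2 C := by
      rw [IsPGroup.iff_card]
      refine ⟨_, Nat.eq_prime_pow_of_unique_prime_dvd Nat.card_pos.ne' fun {r} hr hrd => ?_⟩
      by_contra hr2
      obtain ⟨b, hb, hbo, -⟩ := exists_orderOf_dvd hr hrd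
      exact hr2 (CfsgLib.CITExt.prime_eq (MulEquiv.refl P) hF hr hr2 Nat.prime_two hbo hc2 (mem_cent.mp hb))
    obtain ⟨T, hT⟩ := hCp.exists_le_sylow
    have := (hab T).1.comm ⟨x, hT (mem_cent.mpr hcx)⟩ ⟨y, hT (mem_cent.mpr hcy)⟩
    exact hnc (congrArg Subtype.val this)
  have h2z : 2 ∣ cc z := (dvd_pow_self 2
    (Nat.prime_two.factorization_pos_of_dvd Nat.card_pos.ne' (by rw [hcard]; norm_num)).ne').trans hzfull
  have h2w : 2 ∣ cc w := by
    obtain ⟨k, hk⟩ := hwo
    refine (dvd_pow_self 2 fun e => hw ?_).trans (hk ▸ orderOf_dvd_cc (self_mem w))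
    rw [e, pow_zero, orderOf_eq_one_iff] at hk
    exact hk
  have h3 : 3 ∣ cc a := (dvd_of_eq ha.symm).trans (orderOf_dvd_cc (self_mem a))
  have h5 : 5 ∣ cc b := (dvd_of_eq hb.symm).trans (orderOf_dvd_cc (self_mem b))
  have h7 : 7 ∣ cc c := (dvd_of_eq hc.symm).trans (orderOf_dvd_cc (self_mem c))
  have hA := hpow 3 a ha (Or.inl rfl)
  have hB := hpow 5 b hb (Or.inr (Or.inl rfl))
  have hC := hpow 7 c hc (Or.inr (Or.inr rfl))
  refine five_le (hne a 3 ha (by norm_num)) (hne b 5 hb (by norm_num)) (hne c 7 hc (by norm_num)) hz hw ?_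
  simp only [List.nodup_cons, List.mem_cons, List.not_mem_nil, or_false, List.nodup_nil, and_true, not_or]
  refine ⟨⟨fun e => ?_, fun e => ?_, fun e => ?_, fun e => ?_⟩, ⟨fun e => ?_, fun e => ?_, fun e => ?_⟩,
    ⟨fun e => ?_, fun e => ?_⟩, fun e => hwne (e ▸ hzfull), not_false⟩
  · have := hA 5 (by norm_num) (e ▸ h5); omega
  · have := hA 7 (by norm_num) (e ▸ h7); omega
  · have := hA 2 Nat.prime_two (e ▸ h2z); omega
  · have := hA 2 Nat.prime_two (e ▸ h2w); omega
  · have := hB 7 (by norm_num) (e ▸ h7); omega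
  · have := hB 2 Nat.prime_two (e ▸ h2z); omega
  · have := hB 2 Nat.prime_two (e ▸ h2w); omega
  · have := hC 2 Nat.prime_two (e ▸ h2z); omega
  · have := hC 2 Nat.prime_two (e ▸ h2w); omega

end CfsgLib.ConjRankFour
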